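import Mathlib
import Cfsg.Agent.Mrg.ParSys.Core
import Cfsg.Agent.Mrg.Omega.NO1U.PlaneInv

section


/-!
# The residues of rank two, the panels and the connectivity of a polar space of rank `m` of subspaces

`PolSp S m` : the subspaces `X` with `S X` ("totally singular") form a polar space of rank `m`.
`Act sg S` : the group acts on it, transitively enough.
`fst C sg m f J` : the stabiliser in `C` of the members `f d` (`d ≤ m`, `d ∉ J`) of the flag `f`.

* `trans` : `C` is transitive on the flags;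
* `rk_two`, `rk_three`, `rk_three'`, `rk_four`, `rk_four'` : the rank two residues;
* `relIndex_fst` : the number of chambers of a panel;
* `le_iSup` : `C` is generated by the panel stabilisers.
-/

set_option autoImplicit false
set_option linter.unusedSectionVars false
set_option linter.unusedVariables false

namespace Cfsg.Agent.ParSys.Polar.Flags

open Module Cfsg.Agent.ParSys Cfsg.Agent.ParSys.Polar.Incid

variable {F W : Type*} [Field F] [AddCommGroup W] [Module F W] [FiniteDimensional F W]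

/-- the subspaces with `S` are the totally singular subspaces of a polar space of rank `m` -/
structure PolSp (S : Submodule F W → Prop) (m : ℕ) : Prop where
  bot : S ⊥
  down : ∀ {X Y}, X ≤ Y → S Y → S X
  ext : ∀ X, S X → finrank F X < m → ∃ Y, S Y ∧ X ≤ Y ∧ finrank F Y = finrank F X + 1
  conn : ∀ X Y Z, S Y → S Z → X ≤ Y → X ≤ Z → finrank F Y = finrank F X + 1 →
    finrank F Z = finrank F X + 1 → finrank F X + 1 < m →
    ∃ T, X ≤ T ∧ finrank F T = finrank F X + 1 ∧ S (Y ⊔ T) ∧ S (Z ⊔ T)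
  ex : ∀ X Y, S X → S Y → finrank F X + 1 = m → finrank F Y = m → ¬ X ≤ Y →
    finrank F ↥(X ⊓ Y) + 2 = m → ∃ Z, S Z ∧ X ≤ Z ∧ finrank F Z = m ∧ finrank F ↥(Z ⊓ Y) + 1 = m
  uq : ∀ X Y Z Z', S X → S Y → S Z → S Z' → finrank F X + 1 = m → finrank F Y = m →
    finrank F Z = m → finrank F Z' = m → ¬ X ≤ Y → finrank F ↥(X ⊓ Y) + 2 = m → X ≤ Z → X ≤ Z' →
    finrank F ↥(Z ⊓ Y) + 1 = m → finrank F ↥(Z' ⊓ Y) + 1 = m → Z = Z'

/-- a group acts on the polar space, transitively on the members over a given one, fixing this one elementwise -/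
structure Act {C : Type*} [Group C] (sg : C →* Equiv.Perm (Submodule F W)) (S : Submodule F W → Prop) :
    Prop where
  le : ∀ c {X Y}, X ≤ Y → sg c X ≤ sg c Y
  rk : ∀ c X, finrank F ↥(sg c X) = finrank F X
  sing : ∀ c {X}, S X → S (sg c X)
  tr : ∀ X Y Z, S Y → S Z → X ≤ Y → X ≤ Z → finrank F Y = finrank F X + 1 →
    finrank F Z = finrank F X + 1 → ∃ c, (∀ T ≤ X, sg c T = T) ∧ sg c Y = Z

/-- `f 0 < f 1 < ... < f m` is a flag of singular subspaces -/
structure Fl (S : Submodule F W → Prop) (m : ℕ) (f : ℕ → Submodule F W) : Prop where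
  mono : ∀ d < m, f d ≤ f (d + 1)
  rk : ∀ d ≤ m, finrank F (f d) = d
  sing : S (f m)

variable {S : Submodule F W → Prop} {m : ℕ} {f f' : ℕ → Submodule F W}

theorem Fl.le (hf : Fl S m f) {a b : ℕ} (hab : a ≤ b) (hb : b ≤ m) : f a ≤ f b := by
  induction b, hab using Nat.le_induction with
  | base => exact le_rfl
  | succ b hab ih => exact (ih (by omega)).trans (hf.mono b (by omega))

theorem Fl.si (hS : PolSp S m) (hf : Fl S m f) {d : ℕ} (hd : d ≤ m) : S (f d) :=
  hS.down (hf.le hd le_rfl) hf.sing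

theorem eq_of_rk {X Y : Submodule F W} (h : X ≤ Y) (h' : finrank F X = finrank F Y) : X = Y :=
  Submodule.eq_of_le_of_finrank_eq h h'

theorem Fl.zero (hf : Fl S m f) : f 0 = ⊥ := by
  have := hf.rk 0 (Nat.zero_le _)
  exact Submodule.finrank_eq_zero.1 this

/-- changing one member of a flag -/
theorem Fl.update (hS : PolSp S m) (hf : Fl S m f) {d : ℕ} {X : Submodule F W} (hX : S X)
    (hr : finrank F X = d) (h1 : ∀ e, e + 1 = d → f e ≤ X) (h2 : d < m → X ≤ f (d + 1)) :
    Fl S m (Function.update f d X) where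
  mono e he := by
    by_cases h3 : e = d
    · subst h3
      rw [Function.update_self, Function.update_of_ne (by omega)]
      exact h2 he
    · by_cases h4 : e + 1 = d
      · subst h4
        rw [Function.update_self, Function.update_of_ne (by omega)]
        exact h1 _ rfl
      · rw [Function.update_of_ne h3, Function.update_of_ne h4]
        exact hf.mono e he
  rk e he := by
    by_cases h3 : e = d
    · subst h3; rw [Function.update_self]; exact hr
    · rw [Function.update_of_ne h3]; exact hf.rk e he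
  sing := by
    by_cases h3 : m = d
    · subst h3; rw [Function.update_self]; exact hX
    · rw [Function.update_of_ne h3]; exact hf.sing

/-- extending a flag -/
theorem exists_ext (hS : PolSp S m) {k : ℕ} (hf : Fl S k f) (hk : k ≤ m) :
    ∃ f', Fl S m f' ∧ ∀ d ≤ k, f' d = f d := by
  have key : ∀ j, k + j ≤ m → ∃ f', Fl S (k + j) f' ∧ ∀ d ≤ k, f' d = f d := by
    intro j
    induction j with
    | zero => intro _; exact ⟨f, hf, fun _ _ => rfl⟩
    | succ j ih =>
      intro hj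
      obtain ⟨f', h1, h2⟩ := ih (by omega)
      have h3 := h1.rk (k + j) le_rfl
      obtain ⟨Y, hY, hY1, hY2⟩ := hS.ext _ h1.sing (by omega)
      refine ⟨Function.update f' (k + j + 1) Y, ⟨?_, ?_, ?_⟩, ?_⟩
      · intro e he
        rw [Function.update_of_ne (by omega)]
        by_cases h4 : e = k + j
        · subst h4; rw [Function.update_self]; exact hY1
        · rw [Function.update_of_ne (by omega)]; exact h1.mono e (by omega)
      · intro e he
        by_cases h4 : e = k + j + 1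
        · subst h4; rw [Function.update_self, hY2, h3]
        · rw [Function.update_of_ne h4]; exact h1.rk e (by omega)
      · show S (Function.update f' (k + j + 1) Y (k + j + 1))
        rw [Function.update_self]; exact hY
      · intro d hd
        rw [Function.update_of_ne (by omega)]; exact h2 d hd
  obtain ⟨j, rfl⟩ := Nat.exists_eq_add_of_le hk
  exact key j le_rfl

theorem exists_fl (hS : PolSp S m) : ∃ f, Fl S m f := by
  have h : Fl S 0 (fun _ => (⊥ : Submodule F W)) := ⟨fun _ _ => le_rfl, fun d hd => by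
    obtain rfl : d = 0 := by omega
    exact finrank_bot F W, hS.bot⟩
  obtain ⟨f, hf, -⟩ := exists_ext hS h (Nat.zero_le _)
  exact ⟨f, hf⟩

section act

variable {C : Type*} [Group C] {sg : C →* Equiv.Perm (Submodule F W)}

theorem Act.le_iff (hA : Act sg S) (c : C) {X Y : Submodule F W} : sg c X ≤ sg c Y ↔ X ≤ Y := by
  refine ⟨fun h => ?_, hA.le c⟩
  have := hA.le c⁻¹ h
  rw [map_inv] at this
  change (sg c).symm (sg c X) ≤ (sg c).symm (sg c Y) at this
  rwa [Equiv.symm_apply_apply, Equiv.symm_apply_apply] at this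

/-- **`C` is transitive on the flags** -/
theorem trans (hA : Act sg S) (hS : PolSp S m) (hf : Fl S m f) (hf' : Fl S m f') :
    ∃ c, ∀ d ≤ m, sg c (f d) = f' d := by
  have key : ∀ k ≤ m, ∃ c, ∀ d ≤ k, sg c (f d) = f' d := by
    intro k
    induction k with
    | zero =>
      intro _
      refine ⟨1, fun d hd => ?_⟩
      obtain rfl : d = 0 := by omega
      rw [hf.zero, hf'.zero]; simp
    | succ k ih =>
      intro hk
      obtain ⟨c, hc⟩ := ih (by omega)
      obtain ⟨c', h1, h2⟩ := hA.tr (f' k) (sg c (f (k + 1))) (f' (k + 1)) (hA.sing c (hf.si hS hk))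
        (hf'.si hS hk) (by rw [← hc k le_rfl]; exact hA.le c (hf.mono k (by omega)))
        (hf'.mono k (by omega)) (by rw [hA.rk, hf.rk _ hk, hf'.rk k (by omega)])
        (by rw [hf'.rk _ hk, hf'.rk k (by omega)])
      refine ⟨c' * c, fun d hd => ?_⟩
      rw [map_mul, Equiv.Perm.mul_apply]
      by_cases h3 : d = k + 1
      · subst h3; exact h2
      · rw [hc d (by omega)]
        exact h1 _ (hf'.le (by omega) (by omega))
  exact key m le_rfl

end act

/-! ### Flag stabilisers -/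

variable {G : Type*} [Group G] {C : Subgroup G} {sg : ↥C →* Equiv.Perm (Submodule F W)}

/-- the stabiliser in `C` of the members of the flag `f` outside `J` -/
def fst (C : Subgroup G) (sg : ↥C →* Equiv.Perm (Submodule F W)) (m : ℕ) (f : ℕ → Submodule F W)
    (J : Set ℕ) : Subgroup G where
  carrier := {x | ∃ h : x ∈ C, ∀ d ≤ m, d ∉ J → sg ⟨x, h⟩ (f d) = f d}
  one_mem' := ⟨C.one_mem, fun d _ _ => by
    rw [show (⟨1, C.one_mem⟩ : ↥C) = 1 from rfl, map_one]; rfl⟩
  mul_mem' := by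
    rintro x y ⟨hx, hx'⟩ ⟨hy, hy'⟩
    refine ⟨mul_mem hx hy, fun d hd hJ => ?_⟩
    rw [show (⟨x * y, mul_mem hx hy⟩ : ↥C) = ⟨x, hx⟩ * ⟨y, hy⟩ from rfl, map_mul, Equiv.Perm.mul_apply,
      hy' d hd hJ, hx' d hd hJ]
  inv_mem' := by
    rintro x ⟨hx, hx'⟩
    refine ⟨inv_mem hx, fun d hd hJ => ?_⟩
    rw [show (⟨x⁻¹, inv_mem hx⟩ : ↥C) = (⟨x, hx⟩ : ↥C)⁻¹ from rfl, map_inv, Equiv.Perm.inv_eq_iff_eq,
      hx' d hd hJ]

theorem mem_fst {x : G} {J : Set ℕ} :
    x ∈ fst C sg m f J ↔ ∃ h : x ∈ C, ∀ d ≤ m, d ∉ J → sg ⟨x, h⟩ (f d) = f d := Iff.rfl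

theorem coe_mem_fst {c : ↥C} {J : Set ℕ} :
    (c : G) ∈ fst C sg m f J ↔ ∀ d ≤ m, d ∉ J → sg c (f d) = f d :=
  ⟨fun h => h.2, fun h => ⟨c.2, h⟩⟩

theorem fst_le {J : Set ℕ} : fst C sg m f J ≤ C := fun _ h => h.1

theorem fst_mono {J J' : Set ℕ} (h : J ⊆ J') : fst C sg m f J ≤ fst C sg m f J' :=
  fun _ hx => ⟨hx.1, fun d hd hJ => hx.2 d hd fun hh => hJ (h hh)⟩

/-- the action of a flag stabiliser -/
def act (C : Subgroup G) (sg : ↥C →* Equiv.Perm (Submodule F W)) (m : ℕ) (f : ℕ → Submodule F W)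
    (J : Set ℕ) : ↥(fst C sg m f J) →* Equiv.Perm (Submodule F W) :=
  sg.comp (Subgroup.inclusion fst_le)

theorem act_apply {J : Set ℕ} (x : ↥(fst C sg m f J)) (X : Submodule F W) :
    act C sg m f J x X = sg ⟨(x : G), x.2.1⟩ X := rfl

/-- the points of the residue `{i, j}` -/
def Pt (S : Submodule F W → Prop) (m : ℕ) (f : ℕ → Submodule F W) (i j : ℕ) : Set (Submodule F W) :=
  {X | S X ∧ finrank F X = i ∧ (∀ d < i, f d ≤ X) ∧ ∀ d ≤ m, i < d → d ≠ j → X ≤ f d}

/-- the lines of the residue `{i, j}` -/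
def Ln (S : Submodule F W → Prop) (m : ℕ) (f : ℕ → Submodule F W) (i j : ℕ) : Set (Submodule F W) :=
  {X | S X ∧ finrank F X = j ∧ (∀ d < j, d ≠ i → f d ≤ X) ∧ ∀ d ≤ m, j < d → X ≤ f d}

section res

variable {I : Type*} {P : I → Subgroup G} {a b : I} {i j : ℕ}

theorem f_mem_Pt (hS : PolSp S m) (hf : Fl S m f) (him : i ≤ m) : f i ∈ Pt S m f i j :=
  ⟨hf.si hS him, hf.rk i him, fun _ hd => hf.le hd.le him, fun _ hd h _ => hf.le h.le hd⟩

theorem f_mem_Ln (hS : PolSp S m) (hf : Fl S m f) (hjm : j ≤ m) : f j ∈ Ln S m f i j :=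
  ⟨hf.si hS hjm, hf.rk j hjm, fun _ hd _ => hf.le hd.le hjm, fun _ hd h => hf.le h.le hd⟩

/-- **the residue `{i, j}` is a geometry of points and lines** -/
theorem inc (hS : PolSp S m) (hA : Act sg S) (hf : Fl S m f) (hB : ∀ k, fst C sg m f ∅ ≤ P k)
    (ha : P a = fst C sg m f {i}) (hb : P b = fst C sg m f {j}) (hij : i < j) (hj : j ≤ m) :
    Inc (fst C sg m f ∅) P a b (fst C sg m f {i, j}) (act C sg m f {i, j}) (act C sg m f {i, j})
      (Pt S m f i j) (Ln S m f i j) (fun X Y => X ≤ Y) (f i) (f j) where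
  le := hB
  iH := by rw [ha]; exact fst_mono (by simp)
  jH := by rw [hb]; exact fst_mono (by simp)
  p0 := f_mem_Pt hS hf (by omega)
  L0 := f_mem_Ln hS hf hj
  inc0 := hf.le hij.le hj
  aPt := by
    rintro x X ⟨h1, h2, h3, h4⟩
    rw [act_apply]
    refine ⟨hA.sing _ h1, by rw [hA.rk, h2], fun d hd => ?_, fun d hd h5 h6 => ?_⟩
    · rw [← x.2.2 d (by omega) (by simp; omega)]; exact hA.le _ (h3 d hd)
    · rw [← x.2.2 d hd (by simp; omega)]; exact hA.le _ (h4 d hd h5 h6)
  bLn := by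
    rintro x X ⟨h1, h2, h3, h4⟩
    rw [act_apply]
    refine ⟨hA.sing _ h1, by rw [hA.rk, h2], fun d hd h5 => ?_, fun d hd h5 => ?_⟩
    · rw [← x.2.2 d (by omega) (by simp; omega)]; exact hA.le _ (h3 d hd h5)
    · rw [← x.2.2 d hd (by simp; omega)]; exact hA.le _ (h4 d hd h5)
  inv := fun x p _ L _ h => hA.le _ h
  memB x := by
    constructor
    · intro h
      exact ⟨h.2 i (by omega) (by simp), h.2 j hj (by simp)⟩
    · rintro ⟨h1, h2⟩
      refine ⟨x.2.1, fun d hd _ => ?_⟩
      by_cases h3 : d = i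
      · subst h3; exact h1
      · by_cases h4 : d = j
        · subst h4; exact h2
        · exact x.2.2 d hd (by simp [h3, h4])
  memi x := by
    rw [ha]
    constructor
    · intro h
      exact h.2 j hj (by simp; omega)
    · intro h1
      refine ⟨x.2.1, fun d hd h3 => ?_⟩
      by_cases h4 : d = j
      · subst h4; exact h1
      · exact x.2.2 d hd (by simp only [Set.mem_singleton_iff] at h3; simp [h3, h4])
  memj x := by
    rw [hb]
    constructor
    · intro h
      exact h.2 i (by omega) (by simp; omega)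
    · intro h1
      refine ⟨x.2.1, fun d hd h3 => ?_⟩
      by_cases h4 : d = i
      · subst h4; exact h1
      · exact x.2.2 d hd (by simp only [Set.mem_singleton_iff] at h3; simp [h3, h4])
  tri := by
    rintro X ⟨h1, h2, h3, h4⟩ h5
    have hu : Fl S m (Function.update f i X) := hf.update hS h1 h2 (fun e he => h3 e (by omega)) (fun h6 => by
      by_cases h7 : i + 1 = j
      · rw [h7]; exact h5
      · exact h4 _ (by omega) (by omega) h7)
    obtain ⟨c, hc⟩ := trans hA hS hf hu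
    have hmem : (c : G) ∈ fst C sg m f {i, j} := by
      rw [coe_mem_fst]
      intro d hd hJ
      have h6 := hc d hd
      rwa [Function.update_of_ne (by rintro rfl; simp at hJ)] at h6
    refine ⟨⟨c, hmem⟩, ?_, ?_⟩
    · rw [act_apply]
      have h6 := hc j hj
      rwa [Function.update_of_ne (by omega)] at h6
    · rw [act_apply]
      have h6 := hc i (by omega)
      rwa [Function.update_self] at h6
  trj := by
    rintro X ⟨h1, h2, h3, h4⟩ h5
    have hu : Fl S m (Function.update f j X) := hf.update hS h1 h2 (fun e he => by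
      by_cases h7 : e = i
      · subst h7; exact h5
      · exact h3 e (by omega) h7) (fun h6 => h4 _ (by omega) (by omega))
    obtain ⟨c, hc⟩ := trans hA hS hf hu
    have hmem : (c : G) ∈ fst C sg m f {i, j} := by
      rw [coe_mem_fst]
      intro d hd hJ
      have h6 := hc d hd
      rwa [Function.update_of_ne (by rintro rfl; simp at hJ)] at h6
    refine ⟨⟨c, hmem⟩, ?_, ?_⟩
    · rw [act_apply]
      have h6 := hc i (by omega)
      rwa [Function.update_of_ne (by omega)] at h6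
    · rw [act_apply]
      have h6 := hc j hj
      rwa [Function.update_self] at h6

variable (hS : PolSp S m) (hA : Act sg S) (hf : Fl S m f) (hB : ∀ k, fst C sg m f ∅ ≤ P k)
  (ha : P a = fst C sg m f {i}) (hb : P b = fst C sg m f {j})

include hS hA hf hB ha hb

theorem rk_two (hij : i + 1 < j) (hj : j ≤ m) :
    Rk (fst C sg m f ∅) P a b 2 ∧ Rk (fst C sg m f ∅) P b a 2 := by
  have h := inc hS hA hf hB ha hb (by omega) hj
  have key : ∀ p ∈ Pt S m f i j, ∀ L ∈ Ln S m f i j, p ≤ L := by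
    rintro p ⟨-, -, -, h4⟩ L ⟨-, -, h3, -⟩
    exact (h4 (i + 1) (by omega) (by omega) (by omega)).trans (h3 (i + 1) (by omega) (by omega))
  exact ⟨h.rk_two key, h.symm.rk_two fun L hL p hp => key p hp L hL⟩

omit hA hB ha hb in
theorem sup_rk {p p' : Submodule F W} (hi : 1 ≤ i) (hij : i ≤ m)
    (hp : p ∈ Pt S m f i j) (hp' : p' ∈ Pt S m f i j)
    (hne : p ≠ p') : finrank F ↥(p ⊓ p') + 1 = i ∧ finrank F ↥(p ⊔ p') = i + 1 := by
  have h1 := Submodule.finrank_sup_add_finrank_inf_eq p p'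
  have h2 : f (i - 1) ≤ p ⊓ p' := le_inf (hp.2.2.1 _ (by omega)) (hp'.2.2.1 _ (by omega))
  have h3 := Submodule.finrank_mono h2
  rw [hf.rk (i - 1) (by omega)] at h3
  have h4 : finrank F ↥(p ⊓ p') < i := by
    rcases (Submodule.finrank_mono (inf_le_left : p ⊓ p' ≤ p)).lt_or_eq with h | h
    · rwa [hp.2.1] at h
    · exfalso
      have h5 := eq_of_rk inf_le_left h
      have h6 : p ≤ p' := by rw [← h5]; exact inf_le_right
      exact hne (eq_of_rk h6 (by rw [hp.2.1, hp'.2.1]))
  rw [hp.2.1, hp'.2.1] at h1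
  omega

theorem rk_three (hi : 1 ≤ i) (hij : i + 1 = j) (hj : j < m) :
    Rk (fst C sg m f ∅) P a b 3 ∧ Rk (fst C sg m f ∅) P b a 3 := by
  subst hij
  have h := inc hS hA hf hB ha hb (by omega) hj.le
  have lf : ∀ L ∈ Ln S m f i (i + 1), L ≤ f (i + 2) := fun L hL => hL.2.2.2 _ (by omega) (by omega)
  have pf : ∀ p ∈ Pt S m f i (i + 1), p ≤ f (i + 2) := fun L hL => hL.2.2.2 _ (by omega) (by omega) (by omega)
  have key : ∀ p ∈ Pt S m f i (i + 1), ∀ p' ∈ Pt S m f i (i + 1), p ≠ p' → ∀ L ∈ Ln S m f i (i + 1),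
      p ≤ L → p' ≤ L → p ⊔ p' = L := fun p hp p' hp' hne L hL h1 h2 =>
    eq_of_rk (sup_le h1 h2) (by rw [(sup_rk hS hf hi (by omega) hp hp' hne).2, hL.2.1])
  have P2 : ∀ p ∈ Pt S m f i (i + 1), ∀ p' ∈ Pt S m f i (i + 1), p ≠ p' → ∀ L ∈ Ln S m f i (i + 1),
      ∀ L' ∈ Ln S m f i (i + 1), p ≤ L → p' ≤ L → p ≤ L' → p' ≤ L' → L = L' :=
    fun p hp p' hp' hne L hL L' hL' h1 h2 h3 h4 => by
      rw [← key p hp p' hp' hne L hL h1 h2, ← key p hp p' hp' hne L' hL' h3 h4]
  constructor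
  · refine h.rk_three (fun p hp p' hp' hne => ?_) P2
    refine ⟨p ⊔ p', ⟨?_, ?_, ?_, ?_⟩, le_sup_left, le_sup_right⟩
    · exact hS.down (sup_le (pf p hp) (pf p' hp')) (hf.si hS (by omega))
    · exact (sup_rk hS hf hi (by omega) hp hp' hne).2
    · intro d hd hdi
      exact (hp.2.2.1 d (by omega)).trans le_sup_left
    · intro d hd hid
      exact (sup_le (pf p hp) (pf p' hp')).trans (hf.le (by omega) hd)
  · refine h.symm.rk_three (fun L hL L' hL' hne => ?_)
      (fun L hL L' hL' hne p hp p' hp' h1 h2 h3 h4 => ?_)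
    · have h1 := Submodule.finrank_sup_add_finrank_inf_eq L L'
      have h2 : L ⊔ L' ≤ f (i + 2) := sup_le (lf L hL) (lf L' hL')
      have h3 := Submodule.finrank_mono h2
      rw [hf.rk (i + 2) (by omega)] at h3
      have h4 : i + 1 < finrank F ↥(L ⊔ L') := by
        rcases (Submodule.finrank_mono (le_sup_left : L ≤ L ⊔ L')).lt_or_eq with h | h
        · rwa [hL.2.1] at h
        · exfalso
          have h5 := eq_of_rk le_sup_left h
          have h6 : L' ≤ L := by rw [h5]; exact le_sup_right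
          exact hne (eq_of_rk h6 (by rw [hL.2.1, hL'.2.1])).symm
      rw [hL.2.1, hL'.2.1] at h1
      refine ⟨L ⊓ L', ⟨hS.down inf_le_left hL.1, by omega, fun d hd => ?_, fun d hd h5 h6 => ?_⟩,
        inf_le_left, inf_le_right⟩
      · exact le_inf (hL.2.2.1 d (by omega) (by omega)) (hL'.2.2.1 d (by omega) (by omega))
      · exact inf_le_left.trans (hL.2.2.2 d hd (by omega))
    · by_contra h5
      exact hne (P2 p hp p' hp' h5 L hL L' hL' h1 h3 h2 h4)

theorem rk_four (hi : 1 ≤ i) (hij : i + 1 = j) (hj : j = m) :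
    Rk (fst C sg m f ∅) P a b 4 ∧ Rk (fst C sg m f ∅) P b a 4 := by
  subst hij
  have h := inc hS hA hf hB ha hb (by omega) hj.le
  have Q0 : ∀ p ∈ Pt S m f i (i + 1), ∀ p' ∈ Pt S m f i (i + 1), p ≠ p' → ∀ L ∈ Ln S m f i (i + 1),
      ∀ L' ∈ Ln S m f i (i + 1), p ≤ L → p' ≤ L → p ≤ L' → p' ≤ L' → L = L' :=
    fun p hp p' hp' hne L hL L' hL' h1 h2 h3 h4 => by
      have e1 : p ⊔ p' = L :=
        eq_of_rk (sup_le h1 h2) (by rw [(sup_rk hS hf hi (by omega) hp hp' hne).2, hL.2.1])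
      have e2 : p ⊔ p' = L' :=
        eq_of_rk (sup_le h3 h4) (by rw [(sup_rk hS hf hi (by omega) hp hp' hne).2, hL'.2.1])
      rw [← e1, ← e2]
  have R : ∀ p ∈ Pt S m f i (i + 1), ∀ L ∈ Ln S m f i (i + 1), ¬ p ≤ L → finrank F ↥(p ⊓ L) + 2 = m := by
    intro p hp L hL hn
    have h2 : f (i - 1) ≤ p ⊓ L := le_inf (hp.2.2.1 _ (by omega)) (hL.2.2.1 _ (by omega) (by omega))
    have h3 := Submodule.finrank_mono h2
    rw [hf.rk (i - 1) (by omega)] at h3
    have h4 : finrank F ↥(p ⊓ L) < i := by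
      rcases (Submodule.finrank_mono (inf_le_left : p ⊓ L ≤ p)).lt_or_eq with h | h
      · rwa [hp.2.1] at h
      · exact absurd (by rw [← eq_of_rk inf_le_left h]; exact inf_le_right) hn
    omega
  have Q1 : ∀ p ∈ Pt S m f i (i + 1), ∀ L ∈ Ln S m f i (i + 1), ¬ p ≤ L →
      ∃ p' ∈ Pt S m f i (i + 1), ∃ L' ∈ Ln S m f i (i + 1), p ≤ L' ∧ p' ≤ L' ∧ p' ≤ L := by
    intro p hp L hL hn
    obtain ⟨Z, hZ, hZ1, hZ2, hZ3⟩ := hS.ex p L hp.1 hL.1 (by rw [hp.2.1]; omega) (by rw [hL.2.1]; omega) hn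
      (R p hp L hL hn)
    have fZ : ∀ d < i, f d ≤ Z := fun d hd => (hp.2.2.1 d hd).trans hZ1
    refine ⟨Z ⊓ L, ⟨hS.down inf_le_left hZ, by omega, fun d hd => ?_, fun d hd h5 h6 => ?_⟩, Z,
      ⟨hZ, by omega, fun d hd h5 => fZ d (by omega), fun d hd h5 => ?_⟩, hZ1, inf_le_left, inf_le_right⟩
    · exact le_inf (fZ d hd) (hL.2.2.1 d (by omega) (by omega))
    · omega
    · omega
  have Q2 : ∀ p ∈ Pt S m f i (i + 1), ∀ L ∈ Ln S m f i (i + 1), ¬ p ≤ L → ∀ p' ∈ Pt S m f i (i + 1),
      ∀ L' ∈ Ln S m f i (i + 1), ∀ p'' ∈ Pt S m f i (i + 1), ∀ L'' ∈ Ln S m f i (i + 1), p ≤ L' → p' ≤ L' →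
      p' ≤ L → p ≤ L'' → p'' ≤ L'' → p'' ≤ L → p' = p'' ∧ L' = L'' := by
    intro p hp L hL hn p' hp' L' hL' p'' hp'' L'' hL'' h1 h2 h3 h4 h5 h6
    have key : ∀ p' ∈ Pt S m f i (i + 1), ∀ L' ∈ Ln S m f i (i + 1), p ≤ L' → p' ≤ L' → p' ≤ L →
        p' = L' ⊓ L ∧ finrank F ↥(L' ⊓ L) + 1 = m := by
      intro p' hp' L' hL' h1 h2 h3
      have k1 : p' ≤ L' ⊓ L := le_inf h2 h3
      have k2 := Submodule.finrank_mono k1
      have k3 : finrank F ↥(L' ⊓ L) < i + 1 := by
        rcases (Submodule.finrank_mono (inf_le_right : L' ⊓ L ≤ L)).lt_or_eq with h | h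
        · rwa [hL.2.1] at h
        · exfalso
          have k4 := eq_of_rk inf_le_right h
          have k5 : L ≤ L' := by rw [← k4]; exact inf_le_left
          have k6 := eq_of_rk k5 (by rw [hL.2.1, hL'.2.1])
          exact hn (by rw [k6]; exact h1)
      rw [hp'.2.1] at k2
      exact ⟨eq_of_rk k1 (by rw [hp'.2.1]; omega), by omega⟩
    obtain ⟨e1, e2⟩ := key p' hp' L' hL' h1 h2 h3
    obtain ⟨e3, e4⟩ := key p'' hp'' L'' hL'' h4 h5 h6
    have e5 : L' = L'' := hS.uq p L L' L'' hp.1 hL.1 hL'.1 hL''.1 (by rw [hp.2.1]; omega)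
      (by rw [hL.2.1]; omega) (by rw [hL'.2.1]; omega) (by rw [hL''.2.1]; omega) hn (R p hp L hL hn) h1 h4 e2 e4
    exact ⟨by rw [e1, e3, e5], e5⟩
  refine ⟨h.rk_four Q0 Q1 Q2, h.symm.rk_four (fun L hL L' hL' hne p hp p' hp' h1 h2 h3 h4 => ?_)
    (fun L hL p hp hn => ?_) (fun L hL p hp hn L' hL' p' hp' L'' hL'' p'' hp'' h1 h2 h3 h4 h5 h6 => ?_)⟩
  · by_contra h5
    exact hne (Q0 p hp p' hp' h5 L hL L' hL' h1 h3 h2 h4)
  · obtain ⟨p', hp', L', hL', h1, h2, h3⟩ := Q1 p hp L hL hn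
    exact ⟨L', hL', p', hp', h3, h2, h1⟩
  · obtain ⟨e1, e2⟩ := Q2 p hp L hL hn p' hp' L' hL' p'' hp'' L'' hL'' h3 h2 h1 h6 h5 h4
    exact ⟨e2, e1⟩

end res

/-! ### The panels -/

/-- the members of the panel `j` -/
def Pan (S : Submodule F W → Prop) (m : ℕ) (f : ℕ → Submodule F W) (j : ℕ) : Set (Submodule F W) :=
  {X | S X ∧ finrank F X = j ∧ (∀ d, d + 1 = j → f d ≤ X) ∧ (j < m → X ≤ f (j + 1))}

theorem relIndex_eq_card {α : Type*} {B P : Subgroup G} (ψ : ↥P → α) {X : Set α}
    (h : ∀ x y : ↥P, (x : G)⁻¹ * (y : G) ∈ B ↔ ψ x = ψ y) (h1 : ∀ x, ψ x ∈ X) (h2 : ∀ a ∈ X, ∃ x, ψ x = a) :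
    B.relIndex P = Nat.card X := by
  have e : ∀ x y : ↥P, (QuotientGroup.leftRel (B.subgroupOf P)) x y ↔ ψ x = ψ y := by
    intro x y
    rw [QuotientGroup.leftRel_apply, Subgroup.mem_subgroupOf]
    exact h x y
  let g : ↥P ⧸ B.subgroupOf P → X :=
    Quotient.lift (fun x => (⟨ψ x, h1 x⟩ : X)) fun x y hxy => Subtype.ext ((e x y).1 hxy)
  have hg : Function.Bijective g := by
    constructor
    · intro x y
      induction x using Quotient.inductionOn with
      | _ x =>
      induction y using Quotient.inductionOn with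
      | _ y =>
      intro hxy
      exact Quotient.sound ((e x y).2 (congrArg Subtype.val hxy))
    · rintro ⟨a, ha⟩
      obtain ⟨x, hx⟩ := h2 a ha
      exact ⟨Quotient.mk _ x, Subtype.ext hx⟩
  exact Nat.card_congr (Equiv.ofBijective g hg)

/-- the transitivity of a panel stabiliser -/
theorem exists_pan (hS : PolSp S m) (hA : Act sg S) (hf : Fl S m f) {j : ℕ} (hj : j ≤ m)
    {X : Submodule F W} (hX : X ∈ Pan S m f j) :
    ∃ c : ↥C, (c : G) ∈ fst C sg m f {j} ∧ sg c (f j) = X := by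
  obtain ⟨h1, h2, h3, h4⟩ := hX
  obtain ⟨c, hc⟩ := trans hA hS hf (hf.update hS h1 h2 h3 h4)
  refine ⟨c, ?_, ?_⟩
  · rw [coe_mem_fst]
    intro d hd hJ
    have h6 := hc d hd
    rwa [Function.update_of_ne (by rintro rfl; simp at hJ)] at h6
  · have h6 := hc j hj
    rwa [Function.update_self] at h6

theorem mem_pan (hA : Act sg S) (hS : PolSp S m) (hf : Fl S m f) {j : ℕ} (hj : j ≤ m) {x : G}
    (hx : x ∈ fst C sg m f {j}) : sg ⟨x, hx.1⟩ (f j) ∈ Pan S m f j := by
  refine ⟨hA.sing _ (hf.si hS hj), by rw [hA.rk, hf.rk j hj], fun d hd => ?_, fun hjm => ?_⟩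
  · rw [← hx.2 d (by omega) (by simp; omega)]
    exact hA.le _ (hf.le (by omega) hj)
  · rw [← hx.2 (j + 1) (by omega) (by simp)]
    exact hA.le _ (hf.mono j hjm)

/-- **the number of chambers of a panel** -/
theorem relIndex_fst (hS : PolSp S m) (hA : Act sg S) (hf : Fl S m f) {j : ℕ} (hj : j ≤ m) :
    (fst C sg m f ∅).relIndex (fst C sg m f {j}) = Nat.card (Pan S m f j) := by
  refine relIndex_eq_card (fun x : ↥(fst C sg m f {j}) => sg ⟨(x : G), x.2.1⟩ (f j)) (fun x y => ?_)
    (fun x => mem_pan hA hS hf hj x.2) (fun X hX => ?_)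
  · have e : (x : G)⁻¹ * (y : G) = (((⟨(x : G), x.2.1⟩ : ↥C)⁻¹ * ⟨(y : G), y.2.1⟩ : ↥C) : G) := rfl
    rw [e, coe_mem_fst]
    constructor
    · intro h
      have := h j hj (by simp)
      rw [map_mul, map_inv, Equiv.Perm.mul_apply, Equiv.Perm.inv_eq_iff_eq] at this
      exact this.symm
    · intro h d hd _
      rw [map_mul, map_inv, Equiv.Perm.mul_apply, Equiv.Perm.inv_eq_iff_eq]
      by_cases hdj : d = j
      · subst hdj; exact h.symm
      · rw [x.2.2 d hd (by simpa using hdj), y.2.2 d hd (by simpa using hdj)]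
  · obtain ⟨c, hc, h⟩ := exists_pan hS hA hf hj hX
    exact ⟨⟨c, hc⟩, h⟩

/-! ### Connectivity -/

theorem mem_of_flag (hS : PolSp S m) (hA : Act sg S) (hf : Fl S m f) {N : Subgroup G}
    (hN : ∀ j, 1 ≤ j → j ≤ m → fst C sg m f {j} ≤ N) {g g' : ℕ → Submodule F W} (hg' : Fl S m g')
    {j : ℕ} (hj1 : 1 ≤ j) (hj : j ≤ m) (hadj : ∀ d ≤ m, d ≠ j → g d = g' d)
    (hn : ∃ c : ↥C, (c : G) ∈ N ∧ ∀ d ≤ m, sg c (f d) = g d) :
    ∃ c : ↥C, (c : G) ∈ N ∧ ∀ d ≤ m, sg c (f d) = g' d := by
  obtain ⟨c, hc, h⟩ := hn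
  have hA' : Fl S m (fun d => sg c⁻¹ (g' d)) :=
    ⟨fun d hd => hA.le _ (hg'.mono d hd), fun d hd => by rw [hA.rk]; exact hg'.rk d hd, hA.sing _ hg'.sing⟩
  obtain ⟨c', hc'⟩ := trans hA hS hf hA'
  have h1 : ∀ d ≤ m, sg (c * c') (f d) = g' d := fun d hd => by
    rw [map_mul, Equiv.Perm.mul_apply, hc' d hd, map_inv]
    exact (sg c).apply_symm_apply _
  refine ⟨c * c', mul_mem hc (hN j hj1 hj ?_), h1⟩
  rw [coe_mem_fst]
  intro d hd hdj
  rw [hc' d hd, ← hadj d hd (by simpa using hdj), ← h d hd, map_inv]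
  exact (sg c).symm_apply_apply _

/-- **`C` is generated by the stabilisers of the panels** -/
theorem le_of_panels (hS : PolSp S m) (hA : Act sg S) (hf : Fl S m f) (hm : 1 ≤ m) {N : Subgroup G}
    (hN : ∀ j, 1 ≤ j → j ≤ m → fst C sg m f {j} ≤ N) : C ≤ N := by
  let R : (ℕ → Submodule F W) → Prop := fun g => ∃ c : ↥C, (c : G) ∈ N ∧ ∀ d ≤ m, sg c (f d) = g d
  -- flags agreeing up to `k` are connected
  have key : ∀ k', ∀ k, k + k' = m → ∀ g g' : ℕ → Submodule F W, Fl S m g → Fl S m g' →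
      (∀ d ≤ k, g d = g' d) → R g → R g' := by
    intro k'
    induction k' with
    | zero =>
      intro k hk g g' hg hg' h1 ⟨c, hc, h2⟩
      exact ⟨c, hc, fun d hd => by rw [h2 d hd, h1 d (by omega)]⟩
    | succ k' ih =>
      intro k hk g g' hg hg' h1 hR
      have ek : g k = g' k := h1 k le_rfl
      by_cases hk' : k' = 0
      · subst hk'
        exact mem_of_flag hS hA hf hN hg' (j := m) hm le_rfl (fun d hd hdm => h1 d (by omega)) hR
      -- the step with `S (x ⊔ x')`
      have step : ∀ g g' : ℕ → Submodule F W, Fl S m g → Fl S m g' → (∀ d ≤ k, g d = g' d) →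
          S (g (k + 1) ⊔ g' (k + 1)) → R g → R g' := by
        intro g g' hg hg' h1 h2 hR
        have ek : g k = g' k := h1 k le_rfl
        by_cases hx : g (k + 1) = g' (k + 1)
        · exact ih (k + 1) (by omega) g g' hg hg' (fun d hd => by
            by_cases hdk : d = k + 1
            · subst hdk; exact hx
            · exact h1 d (by omega)) hR
        -- the line
        have r1 : finrank F ↥(g (k + 1) ⊔ g' (k + 1)) = k + 2 := by
          have h3 := Submodule.finrank_sup_add_finrank_inf_eq (g (k + 1)) (g' (k + 1))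
          have h4 : g k ≤ g (k + 1) ⊓ g' (k + 1) :=
            le_inf (hg.mono k (by omega)) (by rw [ek]; exact hg'.mono k (by omega))
          have h5 := Submodule.finrank_mono h4
          rw [hg.rk k (by omega)] at h5
          have h6 : finrank F ↥(g (k + 1) ⊓ g' (k + 1)) < k + 1 := by
            rcases (Submodule.finrank_mono (inf_le_left : g (k + 1) ⊓ g' (k + 1) ≤ g (k + 1))).lt_or_eq
              with h | h
            · rwa [hg.rk (k + 1) (by omega)] at h
            · exfalso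
              have h7 : g (k + 1) ≤ g' (k + 1) := by rw [← eq_of_rk inf_le_left h]; exact inf_le_right
              exact hx (eq_of_rk h7 (by rw [hg.rk _ (by omega), hg'.rk _ (by omega)]))
          rw [hg.rk _ (by omega), hg'.rk _ (by omega)] at h3
          omega
        -- a flag through `g (k+1)` and the line
        have hfl : Fl S (k + 2) (Function.update g (k + 2) (g (k + 1) ⊔ g' (k + 1))) := by
          refine ⟨fun e he => ?_, fun e he => ?_, ?_⟩
          · rw [Function.update_of_ne (by omega)]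
            by_cases h4 : e = k + 1
            · subst h4; rw [Function.update_self]; exact le_sup_left
            · rw [Function.update_of_ne (by omega)]; exact hg.mono e (by omega)
          · by_cases h4 : e = k + 2
            · subst h4; rw [Function.update_self]; exact r1
            · rw [Function.update_of_ne h4]; exact hg.rk e (by omega)
          · rw [Function.update_self]; exact h2
        obtain ⟨u, hu, hu'⟩ := exists_ext hS hfl (by omega)
        have u1 : ∀ d ≤ k + 1, u d = g d := fun d hd => by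
          rw [hu' d (by omega), Function.update_of_ne (by omega)]
        have u2 : u (k + 2) = g (k + 1) ⊔ g' (k + 1) := by rw [hu' _ le_rfl, Function.update_self]
        have R1 : R u := ih (k + 1) (by omega) g u hg hu (fun d hd => (u1 d hd).symm) hR
        have hv : Fl S m (Function.update u (k + 1) (g' (k + 1))) := by
          refine hu.update hS (hg'.si hS (by omega)) (hg'.rk _ (by omega)) (fun e he => ?_) (fun _ => ?_)
          · obtain rfl : e = k := by omega
            rw [u1 e (by omega), ek]; exact hg'.mono e (by omega)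
          · show g' (k + 1) ≤ u (k + 2)
            rw [u2]; exact le_sup_right
        have R2 : R (Function.update u (k + 1) (g' (k + 1))) :=
          mem_of_flag hS hA hf hN hv (j := k + 1) (by omega) (by omega)
            (fun d hd hdk => by rw [Function.update_of_ne hdk]) R1
        refine ih (k + 1) (by omega) _ g' hv hg' (fun d hd => ?_) R2
        by_cases hdk : d = k + 1
        · subst hdk; rw [Function.update_self]
        · rw [Function.update_of_ne hdk, u1 d (by omega), h1 d (by omega)]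
      obtain ⟨T, hT1, hT2, hT3, hT4⟩ := hS.conn (g k) (g (k + 1)) (g' (k + 1)) (hg.si hS (by omega))
        (hg'.si hS (by omega)) (hg.mono k (by omega)) (by rw [ek]; exact hg'.mono k (by omega))
        (by rw [hg.rk _ (by omega), hg.rk _ (by omega)]) (by rw [hg.rk _ (by omega), hg'.rk _ (by omega)])
        (by rw [hg.rk _ (by omega)]; omega)
      have hfl : Fl S (k + 1) (Function.update g (k + 1) T) := by
        refine ⟨fun e he => ?_, fun e he => ?_, ?_⟩
        · rw [Function.update_of_ne (by omega)]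
          by_cases h4 : e = k
          · subst h4; rw [Function.update_self]; exact hT1
          · rw [Function.update_of_ne (by omega)]; exact hg.mono e (by omega)
        · by_cases h4 : e = k + 1
          · subst h4; rw [Function.update_self, hT2, hg.rk k (by omega)]
          · rw [Function.update_of_ne h4]; exact hg.rk e (by omega)
        · rw [Function.update_self]; exact hS.down le_sup_right hT3
      obtain ⟨u, hu, hu'⟩ := exists_ext hS hfl (by omega)
      have u1 : ∀ d ≤ k, u d = g d := fun d hd => by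
        rw [hu' d (by omega), Function.update_of_ne (by omega)]
      have u2 : u (k + 1) = T := by rw [hu' _ le_rfl, Function.update_self]
      have R1 : R u := step g u hg hu (fun d hd => (u1 d hd).symm) (by rw [u2]; exact hT3) hR
      exact step u g' hu hg' (fun d hd => by rw [u1 d hd, h1 d hd]) (by rw [u2, sup_comm]; exact hT4) R1
  intro x hx
  have h1 : Fl S m (fun d => sg ⟨x, hx⟩ (f d)) :=
    ⟨fun d hd => hA.le _ (hf.mono d hd), fun d hd => by rw [hA.rk]; exact hf.rk d hd, hA.sing _ hf.sing⟩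
  obtain ⟨c, hc, h2⟩ := key m 0 (by omega) f _ hf h1 (fun d hd => by
    obtain rfl : d = 0 := by omega
    exact hf.zero.trans h1.zero.symm) ⟨1, one_mem _, fun d _ => by rw [map_one]; rfl⟩
  have h3 : ((⟨x, hx⟩ : ↥C)⁻¹ * c : ↥C) ∈ (fst C sg m f {1}).subgroupOf C := by
    rw [Subgroup.mem_subgroupOf, coe_mem_fst]
    intro d hd _
    rw [map_mul, map_inv, Equiv.Perm.mul_apply, h2 d hd, Equiv.Perm.inv_eq_iff_eq]
  have h4 : (x⁻¹ * (c : G)) ∈ N := hN 1 le_rfl hm h3
  have h5 : x = (c : G) * (x⁻¹ * (c : G))⁻¹ := by group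
  rw [h5]
  exact mul_mem hc (inv_mem h4)

end Cfsg.Agent.ParSys.Polar.Flags

end

section


/-!
# The polar space of a nondegenerate hermitian form over a finite field of characteristic 2

`Herm q sg g` : `g` is a nondegenerate hermitian form over the field of `q^2` elements (characteristic 2).
`perp`, `finrank_perp`, `perp_perp`, `TI` (totally isotropic), `Witt g m` (`m` is the Witt index);
`polSp : PolSp (TI g) m`; `finrank_eq : n = 2m or n = 2m + 1`.
-/

set_option autoImplicit false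
set_option linter.unusedSectionVars false

namespace Cfsg.Agent.ParSys.Polar.Hermit

open Module Cfsg.Agent.ParSys.Polar.Flags

variable {F W : Type*} [Field F] [AddCommGroup W] [Module F W]

/-- a nondegenerate hermitian form over the field of `q^2` elements, characteristic 2 -/
structure Herm (q : ℕ) (sg : F →+* F) (g : W → W → F) : Prop where
  two : (2 : F) = 0
  pos : 0 < q
  card : Nat.card F = q ^ 2
  sg_sg : ∀ a, sg (sg a) = a
  tr_surj : ∀ b, sg b = b → ∃ a, a + sg a = b
  nm_surj : ∀ b, sg b = b → ∃ a, a * sg a = b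
  tr_ker : Nat.card {a : F | a + sg a = 0} = q
  add : ∀ x y z, g (x + y) z = g x z + g y z
  smul : ∀ (s : F) x y, g (s • x) y = s * g x y
  sym : ∀ x y, g y x = sg (g x y)
  nd : ∀ x, (∀ y, g x y = 0) → x = 0

/-- totally isotropic -/
def TI (g : W → W → F) (X : Submodule F W) : Prop := ∀ x ∈ X, ∀ y ∈ X, g x y = 0

/-- `m` is the Witt index -/
def Witt (g : W → W → F) (m : ℕ) : Prop :=
  (∃ X : Submodule F W, TI g X ∧ finrank F X = m) ∧ ∀ X : Submodule F W, TI g X → finrank F X ≤ m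

namespace Herm

variable {q : ℕ} {sg : F →+* F} {g : W → W → F} (H : Herm q sg g)

include H

theorem finite_F : Finite F :=
  Nat.finite_of_card_ne_zero (by rw [H.card]; exact pow_ne_zero _ H.pos.ne')

theorem two_self (a : F) : a + a = 0 := by linear_combination a * H.two

theorem two_w (v : W) : v + v = 0 := by rw [← two_smul F, H.two, zero_smul]

theorem neg_w (v : W) : -v = v := neg_eq_of_add_eq_zero_left (H.two_w v)

theorem sub_w (v u : W) : v - u = v + u := by rw [sub_eq_add_neg, H.neg_w]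

theorem eq_of_add {a b : F} (h : a + b = 0) : a = b := by linear_combination h - b * H.two

theorem add_r (x y z : W) : g x (y + z) = g x y + g x z := by
  rw [H.sym, H.add, map_add, ← H.sym, ← H.sym]

theorem smul_r (s : F) (x y : W) : g x (s • y) = sg s * g x y := by
  rw [H.sym, H.smul, map_mul, ← H.sym]

theorem zero_l (y : W) : g 0 y = 0 := by
  have := H.smul 0 0 y
  rwa [zero_smul, zero_mul] at this

theorem zero_r (y : W) : g y 0 = 0 := by rw [H.sym, H.zero_l, map_zero]

theorem sg_diag (x : W) : sg (g x x) = g x x := (H.sym x x).symm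

theorem sg_eq_zero {a : F} (h : sg a = 0) : a = 0 := by rw [← H.sg_sg a, h, map_zero]

theorem zero_comm {x y : W} (h : g x y = 0) : g y x = 0 := by rw [H.sym, h, map_zero]

theorem ne_comm {x y : W} (h : g x y ≠ 0) : g y x ≠ 0 := fun h' => h (H.zero_comm h')

/-- the orthogonal space -/
def perp (X : Submodule F W) : Submodule F W where
  carrier := {y | ∀ x ∈ X, g y x = 0}
  zero_mem' := fun x _ => H.zero_l x
  add_mem' := fun {a b} ha hb x hx => by rw [H.add, ha x hx, hb x hx, add_zero]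
  smul_mem' := fun s a ha x hx => by rw [H.smul, ha x hx, mul_zero]

theorem mem_perp {X : Submodule F W} {y : W} : y ∈ H.perp X ↔ ∀ x ∈ X, g y x = 0 := Iff.rfl

theorem mem_perp' {X : Submodule F W} {y : W} : y ∈ H.perp X ↔ ∀ x ∈ X, g x y = 0 :=
  ⟨fun h x hx => H.zero_comm (h x hx), fun h x hx => H.zero_comm (h x hx)⟩

theorem perp_anti {X Y : Submodule F W} (h : X ≤ Y) : H.perp Y ≤ H.perp X := fun _ hy x hx => hy x (h hx)

theorem le_perp_comm {X Y : Submodule F W} (h : X ≤ H.perp Y) : Y ≤ H.perp X :=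
  fun _ hy _ hx => H.zero_comm (h hx _ hy)

theorem TI_iff {X : Submodule F W} : TI g X ↔ X ≤ H.perp X := Iff.rfl

theorem mem_perp_span {v y : W} : y ∈ H.perp (F ∙ v) ↔ g y v = 0 := by
  refine ⟨fun h => h v (Submodule.mem_span_singleton_self v), fun h x hx => ?_⟩
  obtain ⟨s, rfl⟩ := Submodule.mem_span_singleton.1 hx
  rw [H.smul_r, h, mul_zero]

theorem mem_perp_sup {X Y : Submodule F W} {y : W} : y ∈ H.perp (X ⊔ Y) ↔ y ∈ H.perp X ∧ y ∈ H.perp Y := by
  refine ⟨fun h => ⟨H.perp_anti le_sup_left h, H.perp_anti le_sup_right h⟩, fun h x hx => ?_⟩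
  obtain ⟨a, ha, b, hb, rfl⟩ := Submodule.mem_sup.1 hx
  rw [H.add_r, h.1 a ha, h.2 b hb, add_zero]

theorem TI_sup {X Y : Submodule F W} (hX : TI g X) (hY : TI g Y) (h : Y ≤ H.perp X) : TI g (X ⊔ Y) := by
  intro x hx y hy
  obtain ⟨a, ha, b, hb, rfl⟩ := Submodule.mem_sup.1 hx
  obtain ⟨a', ha', b', hb', rfl⟩ := Submodule.mem_sup.1 hy
  rw [H.add, H.add_r, H.add_r, hX a ha a' ha', hY b hb b' hb', h hb a' ha', H.zero_comm (h hb' a ha)]
  simp

theorem TI_span {v : W} (hv : g v v = 0) : TI g (F ∙ v) := by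
  intro x hx y hy
  obtain ⟨s, rfl⟩ := Submodule.mem_span_singleton.1 hx
  obtain ⟨t, rfl⟩ := Submodule.mem_span_singleton.1 hy
  rw [H.smul, H.smul_r, hv, mul_zero, mul_zero]

theorem TI_sup_span {X : Submodule F W} (hX : TI g X) {v : W} (hv : g v v = 0) (h : v ∈ H.perp X) :
    TI g (X ⊔ (F ∙ v)) :=
  H.TI_sup hX (H.TI_span hv) (by rwa [Submodule.span_singleton_le_iff_mem])

omit H in
theorem _root_.Cfsg.Agent.ParSys.Polar.Hermit.TI.mono {X Y : Submodule F W} (h : X ≤ Y) (hY : TI g Y) : TI g X :=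
  fun x hx y hy => hY x (h hx) y (h hy)

/-- the linear form `g · x` -/
def gl (x : W) : W →ₗ[F] F where
  toFun y := g y x
  map_add' a b := H.add a b x
  map_smul' s a := by rw [H.smul]; rfl

variable [FiniteDimensional F W]

theorem finrank_perp (X : Submodule F W) : finrank F (H.perp X) + finrank F X = finrank F W := by
  have hF := H.finite_F
  apply le_antisymm
  · let ψ : X → Dual F (W ⧸ H.perp X) := fun x =>
      (H.perp X).liftQ (H.gl (x : W)) (fun y hy => hy (x : W) x.2)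
    have hψ : Function.Injective ψ := by
      intro x x' h
      have h1 : ∀ y, g y (x : W) = g y (x' : W) := fun y => by
        have := LinearMap.congr_fun h (Submodule.Quotient.mk y)
        simpa [ψ, Submodule.liftQ_apply, gl] using this
      have h2 : (x : W) - x' = 0 := H.nd _ fun y => by
        apply H.zero_comm
        rw [H.sub_w, H.add_r, h1 y, H.two_self]
      exact Subtype.ext (sub_eq_zero.1 h2)
    have : Finite (Dual F (W ⧸ H.perp X)) := Module.finite_of_finite F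
    have h1 := Nat.card_le_card_of_injective ψ hψ
    rw [Module.natCard_eq_pow_finrank (K := F) (V := X),
      Module.natCard_eq_pow_finrank (K := F) (V := Dual F (W ⧸ H.perp X)), Subspace.dual_finrank_eq] at h1
    have h2 := (Nat.pow_le_pow_iff_right (Finite.one_lt_card (α := F))).1 h1
    have h3 := Submodule.finrank_quotient_add_finrank (H.perp X)
    omega
  · let b := Module.finBasis F X
    let φ : W →ₗ[F] (Fin (finrank F X) → F) := LinearMap.pi fun i => H.gl (b i : W)
    have hk : LinearMap.ker φ = H.perp X := by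
      ext y
      rw [LinearMap.mem_ker]
      constructor
      · intro h x hx
        have h1 : ∀ i, g y (b i : W) = 0 := fun i => congrFun h i
        have h2 : (⟨x, hx⟩ : X) ∈ Submodule.span F (Set.range b) := by rw [b.span_eq]; trivial
        have h3 : ∀ z : X, z ∈ Submodule.span F (Set.range b) → g y (z : W) = 0 := by
          intro z hz
          induction hz using Submodule.span_induction with
          | mem z hz => obtain ⟨i, rfl⟩ := hz; exact h1 i
          | zero => exact H.zero_r y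
          | add z z' _ _ h1 h2 => rw [Submodule.coe_add, H.add_r, h1, h2, add_zero]
          | smul s z _ h1 => rw [Submodule.coe_smul, H.smul_r, h1, mul_zero]
        exact h3 _ h2
      · intro h
        funext i
        exact h _ (b i).2
    have h1 := LinearMap.finrank_range_add_finrank_ker φ
    rw [hk] at h1
    have h2 := Submodule.finrank_le (LinearMap.range φ)
    rw [Module.finrank_fin_fun] at h2
    omega

theorem perp_perp (X : Submodule F W) : H.perp (H.perp X) = X := by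
  have h1 := H.finrank_perp X
  have h2 := H.finrank_perp (H.perp X)
  exact (eq_of_rk (H.le_perp_comm le_rfl) (by omega)).symm

theorem exists_ne {X : Submodule F W} {x : W} (hx : x ∉ X) : ∃ z ∈ H.perp X, g z x ≠ 0 := by
  by_contra hcon
  push Not at hcon
  exact hx (by rw [← H.perp_perp X]; exact fun z hz => H.zero_comm (hcon z hz))

/-- the dimension inequality -/
theorem dl {X Y : Submodule F W} (h : Y ≤ H.perp (X ⊓ Y)) :
    finrank F Y + finrank F ↥(X ⊓ Y) ≤ finrank F ↥(H.perp X ⊓ Y) + finrank F X := by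
  have h1 : H.perp X ⊔ Y ≤ H.perp (X ⊓ Y) := sup_le (H.perp_anti inf_le_left) h
  have h2 := Submodule.finrank_mono h1
  have h3 := Submodule.finrank_sup_add_finrank_inf_eq (H.perp X) Y
  have h4 := H.finrank_perp X
  have h5 := H.finrank_perp (X ⊓ Y)
  omega

theorem dl' {X Y : Submodule F W} (h : TI g Y) :
    finrank F Y + finrank F ↥(X ⊓ Y) ≤ finrank F ↥(H.perp X ⊓ Y) + finrank F X :=
  H.dl (fun _ hy x hx => h _ hy x hx.2)

theorem TI_bot : TI g (⊥ : Submodule F W) := fun x hx y _ => by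
  rw [(Submodule.mem_bot F).1 hx]; exact H.zero_l y

theorem exists_witt : ∃ m, Witt g m := by
  classical
  have hb : ∀ X : Submodule F W, TI g X → finrank F X ≤ finrank F W := fun X _ => Submodule.finrank_le X
  let p : ℕ → Prop := fun k => ∃ X : Submodule F W, TI g X ∧ finrank F X = k
  exact ⟨Nat.findGreatest p (finrank F W),
    Nat.findGreatest_spec (P := p) (hb ⊥ H.TI_bot) ⟨⊥, H.TI_bot, rfl⟩,
    fun X hX => Nat.le_findGreatest (hb X hX) ⟨X, hX, rfl⟩⟩

/-! ### The polar space -/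

variable {m : ℕ}

/-- in a maximal totally isotropic subspace `M` there are vectors orthogonal to `Z` outside `X` -/
theorem exists_mem {X Z M : Submodule F W} (hM : TI g M) (hXZ : X ≤ Z ⊓ M) (h : finrank F Z < finrank F M ∨
    (finrank F Z ≤ finrank F M ∧ finrank F X < finrank F ↥(Z ⊓ M)) ∨
    finrank F Z + finrank F X < finrank F M + finrank F ↥(Z ⊓ M)) : ∃ t ∈ H.perp Z ⊓ M, t ∉ X := by
  by_contra hcon
  push Not at hcon
  have h1 : H.perp Z ⊓ M ≤ X := hcon
  have h2 := Submodule.finrank_mono h1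
  have h3 := H.dl' (X := Z) hM
  have h4 := Submodule.finrank_mono hXZ
  omega

theorem ext_one (hm : Witt g m) {X : Submodule F W} (hX : TI g X) (h : finrank F X < m) :
    ∃ Y, TI g Y ∧ X ≤ Y ∧ finrank F Y = finrank F X + 1 := by
  obtain ⟨⟨M, hM, rfl⟩, -⟩ := hm
  have h3 := H.dl' (X := X) hM
  obtain ⟨t, ⟨ht1, ht2⟩, ht3⟩ : ∃ t ∈ H.perp X ⊓ M, t ∉ X := by
    by_contra hcon
    push Not at hcon
    have h1 : H.perp X ⊓ M ≤ X ⊓ M := le_inf hcon inf_le_right
    have h2 := Submodule.finrank_mono h1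
    omega
  exact ⟨X ⊔ (F ∙ t), H.TI_sup_span hX (hM t ht2 t ht2) ht1, le_sup_left,
    Submodule.finrank_sup_span_singleton ht3⟩

theorem exists_max (hm : Witt g m) {X : Submodule F W} (hX : TI g X) :
    ∃ Y, TI g Y ∧ X ≤ Y ∧ finrank F Y = m := by
  have key : ∀ k, ∀ X : Submodule F W, TI g X → finrank F X + k = m → ∃ Y, TI g Y ∧ X ≤ Y ∧ finrank F Y = m := by
    intro k
    induction k with
    | zero => intro X hX h; exact ⟨X, hX, le_rfl, h⟩
    | succ k ih =>
      intro X hX h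
      obtain ⟨Y, hY, h1, h2⟩ := H.ext_one hm hX (by omega)
      obtain ⟨Z, hZ, h3, h4⟩ := ih Y hY (by omega)
      exact ⟨Z, hZ, h1.trans h3, h4⟩
  exact key (m - finrank F X) X hX (by have := hm.2 X hX; omega)

/-- the subspace `X^⊥ ∩ Y` in the situation of `ex` -/
theorem finrank_L (hm : Witt g m) {X Y : Submodule F W} (hX : TI g X) (hY : TI g Y)
    (h1 : finrank F X + 1 = m) (h2 : finrank F Y = m) (h3 : ¬ X ≤ Y) (h4 : finrank F ↥(X ⊓ Y) + 2 = m) :
    finrank F ↥(H.perp X ⊓ Y) + 1 = m ∧ finrank F ↥(X ⊔ (H.perp X ⊓ Y)) = m := by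
  have h5 := H.dl' (X := X) hY
  have h6 : finrank F ↥(H.perp X ⊓ Y) < m := by
    rcases (Submodule.finrank_mono (inf_le_right : H.perp X ⊓ Y ≤ Y)).lt_or_eq with h | h
    · rwa [h2] at h
    · exfalso
      have h7 : Y ≤ H.perp X := by rw [← eq_of_rk inf_le_right h]; exact inf_le_left
      have h8 := hm.2 _ (H.TI_sup hX hY h7)
      have h9 := eq_of_rk (le_sup_right : Y ≤ X ⊔ Y) (by
        have := Submodule.finrank_mono (le_sup_right : Y ≤ X ⊔ Y)
        omega)
      exact h3 (by rw [h9]; exact le_sup_left)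
  refine ⟨by omega, ?_⟩
  have h7 := Submodule.finrank_sup_add_finrank_inf_eq X (H.perp X ⊓ Y)
  have h8 : X ⊓ (H.perp X ⊓ Y) = X ⊓ Y := by
    rw [← inf_assoc, inf_eq_left.2 (H.TI_iff.1 hX)]
  rw [h8] at h7
  omega

/-- **the polar space of a hermitian form** -/
theorem polSp (hm : Witt g m) : PolSp (TI g (F := F)) m where
  bot := H.TI_bot
  down := fun h hY => TI.mono h hY
  ext := fun X hX h => H.ext_one hm hX h
  conn := by
    intro X Y Z hY hZ h1 h2 h3 h4 h5
    obtain ⟨M, hM, h6, h7⟩ := H.exists_max hm hY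
    have h8 : X ≤ Z ⊓ M := le_inf h2 (h1.trans h6)
    obtain ⟨t, ⟨ht1, ht2⟩, ht3⟩ := H.exists_mem (X := X) (Z := Z) hM h8 (by omega)
    refine ⟨X ⊔ (F ∙ t), le_sup_left, Submodule.finrank_sup_span_singleton ht3, ?_, ?_⟩
    · exact TI.mono (sup_le h6 (sup_le (h1.trans h6) (by rwa [Submodule.span_singleton_le_iff_mem]))) hM
    · rw [← sup_assoc, sup_eq_left.2 h2]
      exact H.TI_sup_span hZ (hM t ht2 t ht2) ht1
  ex := by
    intro X Y hX hY h1 h2 h3 h4
    obtain ⟨h5, h6⟩ := H.finrank_L hm hX hY h1 h2 h3 h4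
    refine ⟨X ⊔ (H.perp X ⊓ Y), H.TI_sup hX (TI.mono (inf_le_right : H.perp X ⊓ Y ≤ Y) hY) inf_le_left, le_sup_left, h6, ?_⟩
    have h7 : H.perp X ⊓ Y ≤ (X ⊔ (H.perp X ⊓ Y)) ⊓ Y := le_inf le_sup_right inf_le_right
    have h8 := Submodule.finrank_mono h7
    have h9 : finrank F ↥((X ⊔ (H.perp X ⊓ Y)) ⊓ Y) < m := by
      rcases (Submodule.finrank_mono (inf_le_right : (X ⊔ (H.perp X ⊓ Y)) ⊓ Y ≤ Y)).lt_or_eq with h | h
      · rwa [h2] at h
      · exfalso
        have h12 := eq_of_rk (inf_le_right : (X ⊔ (H.perp X ⊓ Y)) ⊓ Y ≤ Y) h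
        have h10 : Y ≤ X ⊔ (H.perp X ⊓ Y) := fun v hv => by
          rw [← h12] at hv; exact hv.1
        have h11 := eq_of_rk h10 (by rw [h6, h2])
        exact h3 (by rw [h11]; exact le_sup_left)
    omega
  uq := by
    intro X Y Z Z' hX hY hZ hZ' h1 h2 h3 h4 h5 h6 h7 h8 h9 h10
    obtain ⟨h11, h12⟩ := H.finrank_L hm hX hY h1 h2 h5 h6
    have key : ∀ Z : Submodule F W, TI g Z → finrank F Z = m → X ≤ Z → finrank F ↥(Z ⊓ Y) + 1 = m →
        X ⊔ (H.perp X ⊓ Y) = Z := by
      intro Z hZ h3 h7 h9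
      have k1 : Z ⊓ Y ≤ H.perp X ⊓ Y := inf_le_inf_right _ (fun z hz x hx => hZ z hz x (h7 hx))
      have k2 := eq_of_rk k1 (by omega)
      refine eq_of_rk (sup_le h7 ?_) (by rw [h12, h3])
      rw [← k2]; exact inf_le_left
    rw [← key Z hZ h3 h7 h9, ← key Z' hZ' h4 h8 h10]

/-! ### The dimension -/

/-- two orthogonal anisotropic vectors give an isotropic one -/
theorem exists_iso {x y : W} (hy : g y y ≠ 0) (hxy : g x y = 0) :
    ∃ a : F, g (x + a • y) (x + a • y) = 0 := by
  obtain ⟨a, ha⟩ := H.nm_surj (g x x / g y y) (by rw [map_div₀, H.sg_diag, H.sg_diag])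
  refine ⟨a, ?_⟩
  rw [H.add, H.add_r, H.add_r, H.smul, H.smul_r, H.smul, H.smul_r, H.zero_comm hxy, hxy, mul_zero, mul_zero,
    add_zero, zero_add, ← mul_assoc, ha, div_mul_cancel₀ _ hy, H.two_self]

theorem finrank_eq (hm : Witt g m) : finrank F W = 2 * m ∨ finrank F W = 2 * m + 1 := by
  obtain ⟨X, hX, hXm⟩ := hm.1
  have h1 := H.finrank_perp X
  have h2 := Submodule.finrank_mono (H.TI_iff.1 hX)
  by_contra hcon
  -- an isotropic vector in `X^⊥` lies in `X`
  have key : ∀ v ∈ H.perp X, g v v = 0 → v ∈ X := by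
    intro v hv hvv
    by_contra hvX
    have h3 := hm.2 _ (H.TI_sup_span hX hvv hv)
    rw [Submodule.finrank_sup_span_singleton hvX] at h3
    omega
  obtain ⟨x, hx, hxX⟩ : ∃ x ∈ H.perp X, x ∉ X := by
    by_contra hc
    push Not at hc
    have h3 : H.perp X ≤ X := hc
    have := Submodule.finrank_mono h3
    omega
  have hxx : g x x ≠ 0 := fun h => hxX (key x hx h)
  obtain ⟨y, hy, hyX⟩ : ∃ y ∈ H.perp (X ⊔ (F ∙ x)), y ∉ X := by
    by_contra hc
    push Not at hc
    have h3 : H.perp (X ⊔ (F ∙ x)) ≤ X := hc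
    have h4 := Submodule.finrank_mono h3
    have h5 := H.finrank_perp (X ⊔ (F ∙ x))
    rw [Submodule.finrank_sup_span_singleton hxX] at h5
    omega
  rw [H.mem_perp_sup, H.mem_perp_span] at hy
  have hyy : g y y ≠ 0 := fun h => hyX (key y hy.1 h)
  obtain ⟨a, ha⟩ := H.exists_iso hyy (H.zero_comm hy.2)
  have h3 := key _ ((H.perp X).add_mem hx ((H.perp X).smul_mem a hy.1)) ha
  have h4 : g x (x + a • y) = 0 := hx _ h3
  rw [H.add_r, H.smul_r, H.zero_comm hy.2, mul_zero, add_zero] at h4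
  exact hxx h4

end Herm

end Cfsg.Agent.ParSys.Polar.Hermit

end

section


/-!
# Groups of semilinear similitudes which contain the Siegel transformations

`HAct H rho sigma` : `C` acts on the hermitian space by semilinear similitudes and induces all the Siegel
transformations; `sigma` is the action on the subspaces.
`act : Act sigma (TI g)`; `exists_fl_of` : a flag through a given isotropic point.
-/

set_option autoImplicit false
set_option linter.unusedSectionVars false

namespace Cfsg.Agent.ParSys.Polar.Hermit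

open Module Cfsg.Agent.ParSys.Polar.Flags

variable {F W : Type*} [Field F] [AddCommGroup W] [Module F W]

/-- `C` acts by semilinear similitudes and induces all the Siegel transformations -/
structure HAct {C : Type*} [Group C] (sg : F →+* F) (g : W → W → F) (rho : C → W ≃+ W)
    (sigma : C →* Equiv.Perm (Submodule F W)) : Prop where
  mul : ∀ a b v, rho (a * b) v = rho a (rho b v)
  sig : ∀ c X w, w ∈ sigma c X ↔ ∃ v ∈ X, rho c v = w
  semi : ∀ c, ∃ (τ : F →+* F) (μ : F), μ ≠ 0 ∧ (∀ (s : F) v, rho c (s • v) = τ s • rho c v) ∧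
    ∀ u v, g (rho c u) (rho c v) = μ * τ (g u v)
  siegel : ∀ (y w : W) (a : F), g y y = 0 → g w y = 0 → a + sg a = g w w →
    ∃ c, ∀ v, rho c v = v + g v y • w + (g v w + a * g v y) • y

namespace HAct

variable {C : Type*} [Group C] {q : ℕ} {sg : F →+* F} {g : W → W → F} {rho : C → W ≃+ W}
  {sigma : C →* Equiv.Perm (Submodule F W)} (H : Herm q sg g) (A : HAct sg g rho sigma)

include A

theorem one (v : W) : rho 1 v = v := by
  have h := A.mul 1 1 v
  rw [mul_one] at h
  exact (rho 1).injective h.symm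

theorem inv_mul_apply (c : C) (v : W) : rho c⁻¹ (rho c v) = v := by
  rw [← A.mul, inv_mul_cancel, A.one]

theorem mul_inv_apply (c : C) (v : W) : rho c (rho c⁻¹ v) = v := by
  rw [← A.mul, mul_inv_cancel, A.one]

theorem mem {c : C} {X : Submodule F W} {v : W} (hv : v ∈ X) : rho c v ∈ sigma c X := (A.sig c X _).2 ⟨v, hv, rfl⟩

theorem mem_iff {c : C} {X : Submodule F W} {v : W} : rho c v ∈ sigma c X ↔ v ∈ X :=
  ⟨fun h => by
    obtain ⟨u, hu, h1⟩ := (A.sig c X _).1 h
    rwa [← (rho c).injective h1], A.mem⟩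

theorem card_eq [Finite F] [FiniteDimensional F W] (c : C) (X : Submodule F W) :
    finrank F ↥(sigma c X) = finrank F X := by
  let e : X → sigma c X := fun v => ⟨rho c (v : W), A.mem v.2⟩
  have he : Function.Bijective e := by
    constructor
    · intro v u h
      exact Subtype.ext ((rho c).injective (congrArg Subtype.val h))
    · rintro ⟨w, hw⟩
      obtain ⟨v, hv, rfl⟩ := (A.sig c X w).1 hw
      exact ⟨⟨v, hv⟩, rfl⟩
  have h1 := Nat.card_congr (Equiv.ofBijective e he)
  rw [Module.natCard_eq_pow_finrank (K := F), Module.natCard_eq_pow_finrank (K := F) (V := ↥(sigma c X))] at h1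
  exact (Nat.pow_right_injective (Finite.one_lt_card (α := F)) h1).symm

theorem eq_of_fix {c : C} {X : Submodule F W} (h : ∀ v ∈ X, rho c v = v) : sigma c X = X := by
  ext w
  rw [A.sig]
  constructor
  · rintro ⟨v, hv, rfl⟩; rwa [h v hv]
  · intro hw; exact ⟨w, hw, h w hw⟩

include H

/-- the image of the span -/
theorem sigma_sup_span {c : C} {X : Submodule F W} {x x' : W} (hX : ∀ v ∈ X, rho c v = v)
    (hx : rho c x - x' ∈ X) [Finite F] [FiniteDimensional F W] (h0 : x ∉ X) :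
    sigma c (X ⊔ (F ∙ x)) = X ⊔ (F ∙ x') := by
  have hx' : x' ∉ X := by
    intro h
    have h1 : rho c x ∈ X := by
      have := X.add_mem hx h
      rwa [sub_add_cancel] at this
    rw [← A.eq_of_fix hX, A.mem_iff] at h1
    exact h0 h1
  symm
  apply eq_of_rk
  · refine sup_le ?_ ?_
    · intro v hv
      rw [← hX v hv]
      exact A.mem (Submodule.mem_sup_left hv)
    · rw [Submodule.span_singleton_le_iff_mem]
      have h1 : x' = rho c x - (rho c x - x') := by abel
      rw [h1]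
      refine Submodule.sub_mem _ (A.mem (Submodule.mem_sup_right (Submodule.mem_span_singleton_self x))) ?_
      rw [← hX _ hx]
      exact A.mem (Submodule.mem_sup_left hx)
  · rw [A.card_eq, Submodule.finrank_sup_span_singleton h0, Submodule.finrank_sup_span_singleton hx']

/-- the Siegel transformation which maps `x` to `x'` modulo `y` -/
theorem siegel_map {X : Submodule F W} {x x' y : W} (hx : g x x = 0) (hx' : g x' x' = 0) (hy : g y y = 0)
    (hxy : g x y = 1) (hxy' : g x' y = 1) (hX1 : ∀ v ∈ X, g v x = 0) (hX2 : ∀ v ∈ X, g v x' = 0)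
    (hX3 : ∀ v ∈ X, g v y = 0) : ∃ c, (∀ v ∈ X, rho c v = v) ∧ rho c x = x' := by
  obtain ⟨c, hc⟩ := A.siegel y (x' + x) (g x x') hy (by rw [H.add, hxy, hxy', H.two_self])
    (by rw [H.add, H.add_r, H.add_r, hx, hx', ← H.sym]; ring)
  refine ⟨c, fun v hv => ?_, ?_⟩
  · rw [hc, hX3 v hv, H.add_r, hX1 v hv, hX2 v hv]; simp
  · rw [hc, hxy, H.add_r, hx, mul_one, add_zero, H.two_self, zero_smul, add_zero, one_smul, add_comm x' x,
      ← add_assoc, H.two_w, zero_add]

theorem smul_span_eq {x : W} {s : F} (hs : s ≠ 0) : (F ∙ (s • x)) = F ∙ x := by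
  apply le_antisymm
  · rw [Submodule.span_singleton_le_iff_mem]
    exact Submodule.smul_mem _ _ (Submodule.mem_span_singleton_self x)
  · rw [Submodule.span_singleton_le_iff_mem]
    exact Submodule.mem_span_singleton.2 ⟨s⁻¹, by rw [smul_smul, inv_mul_cancel₀ hs, one_smul]⟩

variable [Finite F] [FiniteDimensional F W]

/-- the transitivity -/
theorem tr_span {X : Submodule F W} {x x' : W} (hx : g x x = 0) (hx' : g x' x' = 0)
    (h1 : x ∈ H.perp X) (h1' : x' ∈ H.perp X) (h2 : x ∉ X) (h2' : x' ∉ X) :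
    ∃ c, (∀ v ∈ X, rho c v = v) ∧ sigma c (X ⊔ (F ∙ x)) = X ⊔ (F ∙ x') := by
  -- an isotropic `y` in `X^⊥` not orthogonal to `x`, `x'`
  obtain ⟨y, hy, hyy, hxy, hxy'⟩ : ∃ y ∈ H.perp X, g y y = 0 ∧ g x y ≠ 0 ∧ g x' y ≠ 0 := by
    by_cases hb : g x x' = 0
    · obtain ⟨z, hz, hz1, hz2⟩ : ∃ z ∈ H.perp X, g z x ≠ 0 ∧ g z x' ≠ 0 := by
        obtain ⟨z₁, hz1, hz2⟩ := H.exists_ne h2
        obtain ⟨z₂, hz3, hz4⟩ := H.exists_ne h2'
        by_cases h5 : g z₁ x' = 0
        · by_cases h6 : g z₂ x = 0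
          · exact ⟨z₁ + z₂, (H.perp X).add_mem hz1 hz3, by rwa [H.add, h6, add_zero],
              by rwa [H.add, h5, zero_add]⟩
          · exact ⟨z₂, hz3, h6, hz4⟩
        · exact ⟨z₁, hz1, hz2, h5⟩
      obtain ⟨c, hc⟩ := H.tr_surj (g z z) (H.sg_diag z)
      have hxz : g x z ≠ 0 := H.ne_comm hz1
      refine ⟨z + (c / g x z) • x, (H.perp X).add_mem hz ((H.perp X).smul_mem _ h1), ?_, ?_, ?_⟩
      · have e : g z x = sg (g x z) := H.sym x z
        have hzx := hz1
        rw [H.add, H.add_r, H.add_r, H.smul, H.smul_r, H.smul, H.smul_r, hx, map_div₀, ← e, mul_zero, mul_zero,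
          add_zero, div_mul_cancel₀ _ hxz, div_mul_cancel₀ _ hzx, ← hc]
        have := H.two_self (c + sg c)
        linear_combination this
      · rw [H.add_r, H.smul_r, hx, mul_zero, add_zero]; exact hxz
      · rw [H.add_r, H.smul_r, H.zero_comm hb, mul_zero, add_zero]; exact H.ne_comm hz2
    · have hb' := H.ne_comm hb
      refine ⟨x + (g x' x)⁻¹ • x', (H.perp X).add_mem h1 ((H.perp X).smul_mem _ h1'), ?_, ?_, ?_⟩
      · have e : sg (g x' x) = g x x' := (H.sym x' x).symm
        rw [H.add, H.add_r, H.add_r, H.smul, H.smul_r, H.smul, H.smul_r, hx, hx', map_inv₀, e, mul_zero, mul_zero,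
          inv_mul_cancel₀ hb, inv_mul_cancel₀ hb']
        have := H.two_self 1
        linear_combination this
      · have e : sg (g x' x) = g x x' := (H.sym x' x).symm
        rw [H.add_r, H.smul_r, hx, map_inv₀, e, inv_mul_cancel₀ hb, zero_add]; exact one_ne_zero
      · rw [H.add_r, H.smul_r, hx', mul_zero, add_zero]; exact hb'
  have hn : ∀ z : W, g z y ≠ 0 → g ((g z y)⁻¹ • z) y = 1 := fun z hz => by
    rw [H.smul, inv_mul_cancel₀ hz]
  obtain ⟨c, hc1, hc2⟩ := siegel_map H A (X := X) (x := (g x y)⁻¹ • x) (x' := (g x' y)⁻¹ • x') (y := y)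
    (by rw [H.smul, H.smul_r, hx, mul_zero, mul_zero]) (by rw [H.smul, H.smul_r, hx', mul_zero, mul_zero]) hyy
    (hn x hxy) (hn x' hxy') (fun v hv => by rw [H.smul_r, H.zero_comm (h1 v hv), mul_zero])
    (fun v hv => by rw [H.smul_r, H.zero_comm (h1' v hv), mul_zero]) (fun v hv => H.zero_comm (hy v hv))
  refine ⟨c, hc1, ?_⟩
  have e1 : (F ∙ ((g x y)⁻¹ • x)) = F ∙ x := smul_span_eq H A (inv_ne_zero hxy)
  have e2 : (F ∙ ((g x' y)⁻¹ • x')) = F ∙ x' := smul_span_eq H A (inv_ne_zero hxy')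
  rw [← e1, ← e2]
  refine sigma_sup_span H A hc1 (by rw [hc2, sub_self]; exact X.zero_mem) ?_
  intro h
  exact h2 ((Submodule.smul_mem_iff X (inv_ne_zero hxy)).1 h)

omit A in
/-- a vector generating `Y` over `X` -/
theorem exists_gen {X Y : Submodule F W} (hY : TI g Y) (h : X ≤ Y) (hr : finrank F Y = finrank F X + 1) :
    ∃ x, g x x = 0 ∧ x ∈ H.perp X ∧ x ∉ X ∧ Y = X ⊔ (F ∙ x) := by
  obtain ⟨x, hx, hxX⟩ : ∃ x ∈ Y, x ∉ X := by
    by_contra hc
    push Not at hc
    have h3 : Y ≤ X := hc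
    have := Submodule.finrank_mono h3
    omega
  refine ⟨x, hY x hx x hx, fun v hv => hY x hx v (h hv), hxX, ?_⟩
  symm
  exact eq_of_rk (sup_le h (by rwa [Submodule.span_singleton_le_iff_mem]))
    (by rw [Submodule.finrank_sup_span_singleton hxX, hr])

/-- **`C` acts on the polar space as required in `Flags`** -/
theorem act : Act sigma (TI g (F := F)) where
  le c X Y h := by
    intro w hw
    obtain ⟨v, hv, rfl⟩ := (A.sig c X w).1 hw
    exact A.mem (h hv)
  rk c X := A.card_eq c X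
  sing c X hX := by
    intro x hx y hy
    obtain ⟨v, hv, rfl⟩ := (A.sig c X x).1 hx
    obtain ⟨u, hu, rfl⟩ := (A.sig c X y).1 hy
    obtain ⟨τ, μ, -, -, h⟩ := A.semi c
    rw [h, hX v hv u hu, map_zero, mul_zero]
  tr X Y Z hY hZ h1 h2 h3 h4 := by
    obtain ⟨x, hx, hx1, hx2, rfl⟩ := exists_gen H hY h1 h3
    obtain ⟨x', hx', hx1', hx2', rfl⟩ := exists_gen H hZ h2 h4
    obtain ⟨c, hc1, hc2⟩ := tr_span H A hx hx' hx1 hx1' hx2 hx2'
    exact ⟨c, fun T hT => A.eq_of_fix fun v hv => hc1 v (hT hv), hc2⟩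

end HAct

/-- the action on the subspaces -/
theorem exists_sigma [Finite F] {C : Type*} [Group C] {rho : C → W ≃+ W}
    (mul : ∀ a b v, rho (a * b) v = rho a (rho b v))
    (semi : ∀ c, ∃ τ : F →+* F, ∀ (s : F) v, rho c (s • v) = τ s • rho c v) :
    ∃ sigma : C →* Equiv.Perm (Submodule F W), ∀ c X w, w ∈ sigma c X ↔ ∃ v ∈ X, rho c v = w := by
  have one : ∀ v, rho 1 v = v := fun v => by
    have h := mul 1 1 v
    rw [mul_one] at h
    exact (rho 1).injective h.symm
  let im : C → Submodule F W → Submodule F W := fun c X =>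
    { carrier := {w | ∃ v ∈ X, rho c v = w}
      zero_mem' := ⟨0, X.zero_mem, map_zero _⟩
      add_mem' := by
        rintro _ _ ⟨v, hv, rfl⟩ ⟨u, hu, rfl⟩
        exact ⟨v + u, X.add_mem hv hu, map_add _ _ _⟩
      smul_mem' := by
        rintro s _ ⟨v, hv, rfl⟩
        obtain ⟨τ, hτ⟩ := semi c
        obtain ⟨t, rfl⟩ := (Finite.injective_iff_surjective.1 τ.injective) s
        exact ⟨t • v, X.smul_mem t hv, hτ t v⟩ }
  have hmul : ∀ a b X, im (a * b) X = im a (im b X) := by
    intro a b X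
    ext w
    constructor
    · rintro ⟨v, hv, rfl⟩
      exact ⟨rho b v, ⟨v, hv, rfl⟩, (mul a b v).symm⟩
    · rintro ⟨_, ⟨v, hv, rfl⟩, rfl⟩
      exact ⟨v, hv, mul a b v⟩
  have hone : ∀ X, im 1 X = X := by
    intro X
    ext w
    constructor
    · rintro ⟨v, hv, rfl⟩; rwa [one]
    · intro hw; exact ⟨w, hw, one w⟩
  refine ⟨{ toFun := fun c => ⟨im c, im c⁻¹, fun X => ?_, fun X => ?_⟩, map_one' := ?_, map_mul' := ?_ }, ?_⟩
  · rw [← hmul, inv_mul_cancel, hone]
  · rw [← hmul, mul_inv_cancel, hone]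
  · ext1 X; exact hone X
  · intro a b; ext1 X; exact hmul a b X
  · intro c X w; exact Iff.rfl

/-- a flag through a given isotropic point -/
theorem Herm.exists_fl_of {q : ℕ} {sg : F →+* F} {g : W → W → F} (H : Herm q sg g) [FiniteDimensional F W]
    {m : ℕ} (hm : Witt g m) {e₀ : W} (h0 : e₀ ≠ 0) (h : g e₀ e₀ = 0) :
    ∃ f, Fl (TI g (F := F)) m f ∧ f 1 = F ∙ e₀ ∧ 1 ≤ m := by
  have h1 : TI g (F ∙ e₀) := H.TI_span h
  have hm1 : 1 ≤ m := by
    have := hm.2 _ h1
    rwa [finrank_span_singleton h0] at this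
  have h2 : Fl (TI g (F := F)) 1 (fun d => if d = 0 then ⊥ else F ∙ e₀) := by
    refine ⟨fun d hd => ?_, fun d hd => ?_, ?_⟩
    · obtain rfl : d = 0 := by omega
      simp
    · rcases Nat.le_one_iff_eq_zero_or_eq_one.1 hd with rfl | rfl
      · simp
      · simp [finrank_span_singleton h0]
    · simpa using h1
  obtain ⟨f, hf, hf'⟩ := exists_ext (H.polSp hm) h2 hm1
  exact ⟨f, hf, by rw [hf' 1 le_rfl]; simp, hm1⟩

end Cfsg.Agent.ParSys.Polar.Hermit

end

section


/-!
# Counting in hermitian spaces: the panels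

`card_iso` : the number of isotropic vectors `x` of `D` with `g x e = 1` is `|D| / q^3`.
`card_pan_lt`, `card_pan_last` : the panels have `|F| + 1`, respectively `q |F|^(n - 2m) + 1` members.
-/

set_option autoImplicit false
set_option linter.unusedSectionVars false

namespace Cfsg.Agent.ParSys.Polar.Hermit

open Module Cfsg.Agent.ParSys.Polar.Flags

variable {F W : Type*} [Field F] [AddCommGroup W] [Module F W]

/-- the isotropic vectors `x` of `D` with `g x e = 1` -/
def Iso (g : W → W → F) (D : Submodule F W) (e : W) : Set W := {x | x ∈ D ∧ g x x = 0 ∧ g x e = 1}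

namespace Herm

variable {q : ℕ} {sg : F →+* F} {g : W → W → F} (H : Herm q sg g)

include H

theorem tr_fib {b : F} (hb : sg b = b) : Nat.card {t : F | t + sg t = b} = q := by
  obtain ⟨t₀, ht₀⟩ := H.tr_surj b hb
  rw [← H.tr_ker]
  refine Nat.card_congr ⟨fun t => ⟨(t : F) + t₀, ?_⟩, fun t => ⟨(t : F) + t₀, ?_⟩, fun t => ?_, fun t => ?_⟩
  · have h1 : (t : F) + sg t = b := t.2
    show ((t : F) + t₀) + sg ((t : F) + t₀) = 0
    rw [map_add]
    have := H.two_self b
    linear_combination h1 + ht₀ + this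
  · have h1 : (t : F) + sg t = 0 := t.2
    show ((t : F) + t₀) + sg ((t : F) + t₀) = b
    rw [map_add]
    linear_combination h1 + ht₀
  · exact Subtype.ext (by show (t : F) + t₀ + t₀ = t; rw [add_assoc, H.two_self, add_zero])
  · exact Subtype.ext (by show (t : F) + t₀ + t₀ = t; rw [add_assoc, H.two_self, add_zero])

variable [FiniteDimensional F W]

theorem card_iso {D : Submodule F W} {e : W} (he : e ∈ D) (hee : g e e = 0) (hx : ∃ x ∈ D, g x e ≠ 0) :
    Nat.card (Iso g D e) * q ^ 3 = Nat.card D := by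
  have hF := H.finite_F
  have hW : Finite W := Module.finite_of_finite F
  obtain ⟨x₁, hx₁, hx₂⟩ : ∃ x ∈ D, g x e = 1 := by
    obtain ⟨x, hx, hx'⟩ := hx
    exact ⟨(g x e)⁻¹ • x, D.smul_mem _ hx, by rw [H.smul, inv_mul_cancel₀ hx']⟩
  let A : Set W := {x | x ∈ D ∧ g x e = 1}
  have h1 : Nat.card A * Nat.card F = Nat.card D := by
    rw [← Nat.card_prod]
    refine Nat.card_congr ⟨fun p => ⟨(p.1 : W) + p.2 • x₁, D.add_mem p.1.2.1 (D.smul_mem _ hx₁)⟩,
      fun x => (⟨(x : W) + (g x e + 1) • x₁, D.add_mem x.2 (D.smul_mem _ hx₁), ?_⟩, g x e + 1), fun p => ?_,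
      fun x => ?_⟩
    · rw [H.add, H.smul, hx₂, mul_one, ← add_assoc, H.two_self, zero_add]
    · have h2 : g ((p.1 : W) + p.2 • x₁) e + 1 = p.2 := by
        rw [H.add, H.smul, hx₂, p.1.2.2, mul_one]
        have := H.two_self 1
        linear_combination this
      refine Prod.ext (Subtype.ext ?_) h2
      show (p.1 : W) + p.2 • x₁ + (g ((p.1 : W) + p.2 • x₁) e + 1) • x₁ = p.1
      rw [h2, add_assoc, H.two_w, add_zero]
    · refine Subtype.ext ?_
      show (x : W) + (g x e + 1) • x₁ + (g x e + 1) • x₁ = x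
      rw [add_assoc, H.two_w, add_zero]
  have key : ∀ a ∈ A, ∀ t : F, g (a + t • e) (a + t • e) = 0 ↔ t + sg t = g a a := by
    intro a ha t
    have h3 : g a e = 1 := ha.2
    have h4 : g e a = 1 := by rw [H.sym, h3, map_one]
    rw [H.add, H.add_r, H.add_r, H.smul, H.smul_r, H.smul, H.smul_r, hee, h3, h4]
    constructor
    · intro h
      have := H.two_self (g a a)
      linear_combination h - this
    · intro h
      have := H.two_self (g a a)
      linear_combination h + this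
  have h2 : Nat.card (Iso g D e) * Nat.card F = Nat.card A * q := by
    rw [← Nat.card_prod]
    have e1 : (Iso g D e × F) ≃ (Σ a : A, {t : F | t + sg t = g (a : W) a}) :=
      { toFun := fun p => ⟨⟨(p.1 : W) + p.2 • e, D.add_mem p.1.2.1 (D.smul_mem _ he), by
            rw [H.add, H.smul, hee, mul_zero, add_zero]; exact p.1.2.2.2⟩, ⟨p.2, by
            have hA : (p.1 : W) + p.2 • e ∈ A := ⟨D.add_mem p.1.2.1 (D.smul_mem _ he), by
              rw [H.add, H.smul, hee, mul_zero, add_zero]; exact p.1.2.2.2⟩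
            refine (key _ hA p.2).1 ?_
            rw [add_assoc, H.two_w, add_zero]; exact p.1.2.2.1⟩⟩
        invFun := fun p => (⟨(p.1 : W) + (p.2 : F) • e, D.add_mem p.1.2.1 (D.smul_mem _ he),
            (key _ p.1.2 p.2).2 p.2.2, by rw [H.add, H.smul, hee, mul_zero, add_zero]; exact p.1.2.2⟩, p.2)
        left_inv := fun p => Prod.ext (Subtype.ext (by
          show (p.1 : W) + p.2 • e + p.2 • e = p.1
          rw [add_assoc, H.two_w, add_zero])) rfl
        right_inv := fun p => by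
          obtain ⟨⟨a, ha⟩, ⟨t, ht⟩⟩ := p
          have h3 : a + t • e + t • e = a := by rw [add_assoc, H.two_w, add_zero]
          have h4 : ∀ (b c : A) (hbc : (b : W) = c) (hb : t + sg t = g (b : W) b)
              (hc : t + sg t = g (c : W) c), (⟨b, ⟨t, hb⟩⟩ : Σ a : A, {t : F | t + sg t = g (a : W) a})
                = ⟨c, ⟨t, hc⟩⟩ := by
            intro b c hbc hb hc
            obtain rfl := Subtype.ext hbc
            rfl
          exact h4 ⟨a + t • e + t • e, _⟩ ⟨a, ha⟩ h3 _ _ }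
    rw [Nat.card_congr e1]
    have : Fintype A := Fintype.ofFinite A
    rw [Nat.card_sigma]
    have h5 : ∀ a : A, Nat.card {t : F | t + sg t = g (a : W) a} = q := fun a => H.tr_fib (H.sg_diag _)
    rw [Finset.sum_congr rfl (fun a _ => h5 a), Finset.sum_const, Finset.card_univ, smul_eq_mul,
      Nat.card_eq_fintype_card]
  have hq := H.pos
  have hc := H.card
  rw [hc] at h1 h2
  have h3 : Nat.card (Iso g D e) * q = Nat.card A :=
    Nat.eq_of_mul_eq_mul_right hq (by rw [← h2]; ring)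
  rw [← h1, ← h3]; ring

end Herm

/-- counting the members of a spread over `A` -/
theorem card_spread {A : Submodule F W} {X : Set (Submodule F W)} {T : Set W} [Finite W] {b : ℕ}
    (h1 : ∀ x ∈ X, A ≤ x) (h2 : ∀ x ∈ X, Nat.card x = b)
    (h3 : ∀ v, v ∈ T ↔ v ∉ A ∧ ∃ x ∈ X, v ∈ x)
    (h4 : ∀ x ∈ X, ∀ x' ∈ X, ∀ v, v ∉ A → v ∈ x → v ∈ x' → x = x') :
    Nat.card T + Nat.card X * Nat.card A = Nat.card X * b := by
  classical
  have hs : Finite (Submodule F W) := Finite.of_injective (fun X : Submodule F W => (X : Set W)) SetLike.coe_injective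
  have e : (Σ x : X, {v : W // v ∈ (x : Submodule F W) ∧ v ∉ A}) ≃ T := by
    refine Equiv.ofBijective (fun p => ⟨p.2.1, (h3 _).2 ⟨p.2.2.2, _, p.1.2, p.2.2.1⟩⟩) ⟨?_, ?_⟩
    · rintro ⟨⟨x, hx⟩, ⟨v, hv, hv'⟩⟩ ⟨⟨x', hx'⟩, ⟨v', hw, hw'⟩⟩ h
      have h5 : v = v' := congrArg Subtype.val h
      subst h5
      obtain rfl := h4 x hx x' hx' v hv' hv hw
      rfl
    · rintro ⟨v, hv⟩
      obtain ⟨h5, x, hx, hvx⟩ := (h3 v).1 hv
      exact ⟨⟨⟨x, hx⟩, ⟨v, hvx, h5⟩⟩, rfl⟩
  have : Fintype X := Fintype.ofFinite X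
  rw [← Nat.card_congr e, Nat.card_sigma]
  have h5 : ∀ x : X, Nat.card {v : W // v ∈ (x : Submodule F W) ∧ v ∉ A} + Nat.card A = b := by
    intro x
    rw [← h2 x x.2]
    have e2 : {v : W // v ∈ (x : Submodule F W) ∧ v ∉ A} ⊕ A ≃ (x : Submodule F W) := by
      refine Equiv.ofBijective (Sum.elim (fun v => ⟨v.1, v.2.1⟩) fun a => ⟨a.1, h1 x x.2 a.2⟩) ⟨?_, ?_⟩
      · rintro (⟨v, hv, hv'⟩ | ⟨a, ha⟩) (⟨w, hw, hw'⟩ | ⟨a', ha'⟩) h
        · have : v = w := congrArg Subtype.val h
          subst this; rfl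
        · have : v = a' := congrArg Subtype.val h
          subst this; exact absurd ha' hv'
        · have : a = w := congrArg Subtype.val h
          subst this; exact absurd ha hw'
        · have : a = a' := congrArg Subtype.val h
          subst this; rfl
      · rintro ⟨v, hv⟩
        by_cases hA : v ∈ A
        · exact ⟨Sum.inr ⟨v, hA⟩, rfl⟩
        · exact ⟨Sum.inl ⟨v, hv, hA⟩, rfl⟩
    rw [← Nat.card_congr e2, Nat.card_sum]
  rw [Nat.card_eq_fintype_card (α := X), ← Finset.card_univ, ← smul_eq_mul, ← smul_eq_mul, ← Finset.sum_const,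
    ← Finset.sum_const, ← Finset.sum_add_distrib]
  exact Finset.sum_congr rfl fun x _ => h5 x

/-- a complement count -/
theorem card_compl {A X : Submodule F W} [Finite W] (h : A ≤ X) :
    Nat.card {v : W | v ∈ X ∧ v ∉ A} + Nat.card A = Nat.card X := by
  have e2 : {v : W | v ∈ X ∧ v ∉ A} ⊕ A ≃ X := by
    refine Equiv.ofBijective (Sum.elim (fun v => ⟨v.1, v.2.1⟩) fun a => ⟨a.1, h a.2⟩) ⟨?_, ?_⟩
    · rintro (⟨v, hv, hv'⟩ | ⟨a, ha⟩) (⟨w, hw, hw'⟩ | ⟨a', ha'⟩) h
      · have : v = w := congrArg Subtype.val h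
        subst this; rfl
      · have : v = a' := congrArg Subtype.val h
        subst this; exact absurd ha' hv'
      · have : a = w := congrArg Subtype.val h
        subst this; exact absurd ha hw'
      · have : a = a' := congrArg Subtype.val h
        subst this; rfl
    · rintro ⟨v, hv⟩
      by_cases hA : v ∈ A
      · exact ⟨Sum.inr ⟨v, hA⟩, rfl⟩
      · exact ⟨Sum.inl ⟨v, hv, hA⟩, rfl⟩
  rw [← Nat.card_congr e2, Nat.card_sum]

variable [FiniteDimensional F W] {q : ℕ} {sg : F →+* F} {g : W → W → F} (H : Herm q sg g) {m : ℕ}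
  {f : ℕ → Submodule F W}

include H

/-- the span of one more vector -/
theorem Herm.eq_sup {A X : Submodule F W} {v : W} (h : A ≤ X) (hv : v ∈ X) (hA : v ∉ A)
    (hr : finrank F X = finrank F A + 1) : X = A ⊔ (F ∙ v) := by
  symm
  exact eq_of_rk (sup_le h (by rwa [Submodule.span_singleton_le_iff_mem]))
    (by rw [Submodule.finrank_sup_span_singleton hA, hr])

/-- **the panels `1 ≤ j < m`** -/
theorem Herm.card_pan_lt (hm : Witt g m) (hf : Fl (TI g (F := F)) m f) {j : ℕ} (hj : 1 ≤ j) (hjm : j < m) :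
    Nat.card (Flags.Pan (TI g) m f j) = Nat.card F + 1 := by
  have hF := H.finite_F
  have hW : Finite W := Module.finite_of_finite F
  obtain ⟨i, rfl⟩ := Nat.exists_eq_add_of_le' hj
  have hS := H.polSp hm
  have hQ := Finite.one_lt_card (α := F)
  have cf : ∀ d ≤ m, Nat.card (f d) = Nat.card F ^ d := fun d hd => by
    rw [Module.natCard_eq_pow_finrank (K := F), hf.rk d hd]
  have h1 := card_compl (hf.le (a := i) (b := i + 2) (by omega) (by omega))
  have h2 := card_spread (A := f i) (X := Flags.Pan (TI g) m f (i + 1)) (T := {v : W | v ∈ f (i + 2) ∧ v ∉ f i})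
    (b := Nat.card F ^ (i + 1)) (fun x hx => hx.2.2.1 i rfl)
    (fun x hx => by rw [Module.natCard_eq_pow_finrank (K := F), hx.2.1])
    (fun v => ?_) (fun x hx x' hx' v hv h1 h2 => ?_)
  · rw [cf _ (by omega), cf _ (by omega)] at h1
    rw [cf _ (by omega)] at h2
    have hR : 0 < Nat.card F ^ i := pow_pos (by omega) _
    rw [pow_succ, pow_succ] at h1
    rw [pow_succ] at h2
    generalize Nat.card {v : W | v ∈ f (i + 2) ∧ v ∉ f i} = T at *
    generalize Nat.card (Flags.Pan (TI g) m f (i + 1)) = P at *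
    generalize Nat.card F ^ i = R at *
    generalize Nat.card F = Q at *
    -- T + R = R Q Q,  T + P R = P (R Q)
    zify at h1 h2 hR hQ ⊢
    have h3 : (R : ℤ) * (Q - 1) * (P - (Q + 1)) = 0 := by linear_combination -h2 + h1
    rcases mul_eq_zero.1 h3 with h | h
    · rcases mul_eq_zero.1 h with h | h <;> omega
    · linarith
  · constructor
    · rintro ⟨hv, hv'⟩
      refine ⟨hv', f i ⊔ (F ∙ v), ⟨?_, ?_, ?_, ?_⟩, Submodule.mem_sup_right (Submodule.mem_span_singleton_self v)⟩
      · exact TI.mono (sup_le (hf.le (by omega) (by omega)) (by rwa [Submodule.span_singleton_le_iff_mem]))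
          (hf.si hS (d := i + 2) (by omega))
      · rw [Submodule.finrank_sup_span_singleton hv', hf.rk i (by omega)]
      · intro d hd
        obtain rfl : d = i := by omega
        exact le_sup_left
      · intro _
        exact sup_le (hf.le (by omega) (by omega)) (by rwa [Submodule.span_singleton_le_iff_mem])
    · rintro ⟨hv, x, hx, hvx⟩
      exact ⟨hx.2.2.2 hjm hvx, hv⟩
  · rw [H.eq_sup (hx.2.2.1 i rfl) h1 hv (by rw [hx.2.1, hf.rk i (by omega)]),
      H.eq_sup (hx'.2.2.1 i rfl) h2 hv (by rw [hx'.2.1, hf.rk i (by omega)])]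

/-- an isotropic vector orthogonal to `f m` lies in `f m` -/
theorem Herm.mem_of_iso (hm : Witt g m) (hf : Fl (TI g (F := F)) m f) {v : W} (hv : g v v = 0)
    (h : v ∈ H.perp (f m)) : v ∈ f m := by
  by_contra hvX
  have h3 := hm.2 _ (H.TI_sup_span hf.sing hv h)
  rw [Submodule.finrank_sup_span_singleton hvX, hf.rk m le_rfl] at h3
  omega

/-- the number of isotropic vectors `x` of `(f i)^⊥` with `g x e = 1` -/
theorem Herm.card_last (hm : Witt g m) (hf : Fl (TI g (F := F)) m f) {i : ℕ} (hi : i + 1 = m) {e : W}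
    (he : e ∈ f m) (he' : e ∉ f i) :
    Nat.card (Iso g (H.perp (f i)) e) = Nat.card F ^ i * (q * Nat.card F ^ (finrank F W - 2 * m)) := by
  have h1 := H.card_iso (D := H.perp (f i)) (e := e) (fun x hx => hf.sing e he x (hf.le (by omega) le_rfl hx))
    (hf.sing e he e he) (by
      obtain ⟨z, hz, h⟩ := H.exists_ne he'
      exact ⟨z, hz, h⟩)
  have h2 := H.finrank_perp (f i)
  have h3 := H.finrank_eq hm
  rw [hf.rk i (by omega)] at h2
  rw [Module.natCard_eq_pow_finrank (K := F) (V := ↥(H.perp (f i)))] at h1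
  have h4 : finrank F ↥(H.perp (f i)) = i + (finrank F W - 2 * m) + 2 := by omega
  rw [h4, pow_add, pow_add, H.card] at h1
  rw [H.card]
  have hq : 0 < q ^ 3 := pow_pos H.pos _
  exact Nat.eq_of_mul_eq_mul_right hq (by rw [h1]; ring)

/-- **the last panel** -/
theorem Herm.card_pan_last (hm : Witt g m) (hf : Fl (TI g (F := F)) m f) (hm1 : 1 ≤ m) :
    Nat.card (Flags.Pan (TI g) m f m) = q * Nat.card F ^ (finrank F W - 2 * m) + 1 := by
  have hF := H.finite_F
  have hW : Finite W := Module.finite_of_finite F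
  obtain ⟨i, rfl⟩ := Nat.exists_eq_add_of_le' hm1
  have hS := H.polSp hm
  have hQ := Finite.one_lt_card (α := F)
  have cf : ∀ d ≤ i + 1, Nat.card (f d) = Nat.card F ^ d := fun d hd => by
    rw [Module.natCard_eq_pow_finrank (K := F), hf.rk d hd]
  obtain ⟨e, hee, he1, he2, he3⟩ := HAct.exists_gen H hf.sing (hf.mono i (by omega))
    (by rw [hf.rk _ le_rfl, hf.rk i (by omega)])
  have hem : e ∈ f (i + 1) := by rw [he3]; exact Submodule.mem_sup_right (Submodule.mem_span_singleton_self e)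
  have h0 := H.card_last hm hf rfl hem he2
  -- the isotropic vectors of `(f i)^⊥` outside `f i`
  let T : Set W := {v | v ∈ H.perp (f i) ∧ g v v = 0 ∧ v ∉ f i}
  have h1 : Nat.card T + Nat.card F ^ i + Nat.card (Iso g (H.perp (f i)) e)
      = Nat.card F ^ (i + 1) + Nat.card F * Nat.card (Iso g (H.perp (f i)) e) := by
    have e1 : T ⊕ (f i) ⊕ (Iso g (H.perp (f i)) e) ≃ (f (i + 1)) ⊕ (F × Iso g (H.perp (f i)) e) := by
      classical
      have p1 : ∀ v : W, v ∈ H.perp (f i) → g v v = 0 → g v e = 0 → v ∈ f (i + 1) := fun v h1 h2 h3 => by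
        refine H.mem_of_iso hm hf h2 ?_
        rw [he3, H.mem_perp_sup, H.mem_perp_span]
        exact ⟨h1, h3⟩
      have p2 : ∀ v ∈ f (i + 1), v ∈ H.perp (f i) ∧ g v v = 0 ∧ g v e = 0 := fun v hv =>
        ⟨fun x hx => hf.sing v hv x (hf.mono i (by omega) hx), hf.sing v hv v hv, hf.sing v hv e hem⟩
      have p3 : ∀ v : W, v ∈ H.perp (f i) → g v v = 0 → g v e ≠ 0 →
          (g v e)⁻¹ • v ∈ Iso g (H.perp (f i)) e := fun v h1 h2 h3 =>
        ⟨Submodule.smul_mem _ _ h1, by rw [H.smul, H.smul_r, h2, mul_zero, mul_zero],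
          by rw [H.smul, inv_mul_cancel₀ h3]⟩
      have p4 : ∀ (s : F) (x : W), s ≠ 0 → x ∈ Iso g (H.perp (f i)) e → s • x ∈ T := fun s x hs hx => by
        refine ⟨Submodule.smul_mem _ _ hx.1, by rw [H.smul, H.smul_r, hx.2.1, mul_zero, mul_zero], fun h => ?_⟩
        have h2 := (p2 _ (hf.mono i (by omega) h)).2.2
        rw [H.smul, hx.2.2, mul_one] at h2
        exact hs h2
      refine
        { toFun := fun z => match z with
            | Sum.inl v => if h : g (v : W) e = 0 then Sum.inl ⟨v, p1 v v.2.1 v.2.2.1 h⟩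
                else Sum.inr (g (v : W) e, ⟨_, p3 v v.2.1 v.2.2.1 h⟩)
            | Sum.inr (Sum.inl a) => Sum.inl ⟨a, hf.mono i (by omega) a.2⟩
            | Sum.inr (Sum.inr x) => Sum.inr (0, x)
          invFun := fun z => match z with
            | Sum.inl v => if h : (v : W) ∈ f i then Sum.inr (Sum.inl ⟨v, h⟩)
                else Sum.inl ⟨v, (p2 v v.2).1, (p2 v v.2).2.1, h⟩
            | Sum.inr (s, x) => if h : s = 0 then Sum.inr (Sum.inr x) else Sum.inl ⟨s • (x : W), p4 s x h x.2⟩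
          left_inv := ?_
          right_inv := ?_ }
      · rintro (⟨v, h1, h2, h3⟩ | ⟨a, ha⟩ | x)
        · by_cases h : g v e = 0
          · simp [h, h3]
          · simp only [h, dite_false]
            refine congrArg Sum.inl (Subtype.ext ?_)
            show g v e • ((g v e)⁻¹ • v) = v
            rw [smul_smul, mul_inv_cancel₀ h, one_smul]
        · simp [ha]
        · simp
      · rintro (⟨v, hv⟩ | ⟨s, ⟨x, hx⟩⟩)
        · by_cases h : v ∈ f i
          · simp [h]
          · simp [h, (p2 v hv).2.2]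
        · by_cases h : s = 0
          · subst h; simp
          · have h5 : g (s • x) e = s := by rw [H.smul, hx.2.2, mul_one]
            have h6 : g (s • x) e ≠ 0 := by rw [h5]; exact h
            simp only [h, dite_false, h6]
            refine congrArg Sum.inr (Prod.ext h5 (Subtype.ext ?_))
            show (g (s • x) e)⁻¹ • (s • x) = x
            rw [h5, smul_smul, inv_mul_cancel₀ h, one_smul]
    have h2 := Nat.card_congr e1
    rw [Nat.card_sum, Nat.card_sum, Nat.card_sum, Nat.card_prod, cf _ le_rfl, cf _ (by omega)] at h2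
    omega
  have h2 := card_spread (A := f i) (X := Flags.Pan (TI g) (i + 1) f (i + 1)) (T := T)
    (b := Nat.card F ^ (i + 1)) (fun x hx => hx.2.2.1 i rfl)
    (fun x hx => by rw [Module.natCard_eq_pow_finrank (K := F), hx.2.1])
    (fun v => ?_) (fun x hx x' hx' v hv h1 h2 => ?_)
  · rw [cf _ (by omega)] at h2
    have hR : 0 < Nat.card F ^ i := pow_pos (by omega) _
    rw [pow_succ] at h1 h2
    rw [h0] at h1
    generalize Nat.card T = T' at *
    generalize Nat.card (Flags.Pan (TI g) (i + 1) f (i + 1)) = P at *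
    generalize q * Nat.card F ^ (finrank F W - 2 * (i + 1)) = N at *
    generalize Nat.card F ^ i = R at *
    generalize Nat.card F = Q at *
    -- T + R + R N = R Q + Q (R N),  T + P R = P (R Q)
    zify at h1 h2 hR hQ ⊢
    have h3 : (R : ℤ) * (Q - 1) * (P - (N + 1)) = 0 := by linear_combination -h2 + h1
    rcases mul_eq_zero.1 h3 with h | h
    · rcases mul_eq_zero.1 h with h | h <;> omega
    · linarith
  · constructor
    · rintro ⟨hv, hvv, hv'⟩
      refine ⟨hv', f i ⊔ (F ∙ v), ⟨?_, ?_, ?_, ?_⟩, Submodule.mem_sup_right (Submodule.mem_span_singleton_self v)⟩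
      · exact H.TI_sup_span (hf.si hS (by omega)) hvv hv
      · rw [Submodule.finrank_sup_span_singleton hv', hf.rk i (by omega)]
      · intro d hd
        obtain rfl : d = i := by omega
        exact le_sup_left
      · intro h; omega
    · rintro ⟨hv, x, hx, hvx⟩
      exact ⟨fun y hy => hx.1 v hvx y (hx.2.2.1 i rfl hy), hx.1 v hvx v hvx, hv⟩
  · rw [H.eq_sup (hx.2.2.1 i rfl) h1 hv (by rw [hx.2.1, hf.rk i (by omega)]),
      H.eq_sup (hx'.2.2.1 i rfl) h2 hv (by rw [hx'.2.1, hf.rk i (by omega)])]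

end Cfsg.Agent.ParSys.Polar.Hermit

end

section


/-!
# The order of the unipotent group of a flag (C-side of NO-1', type (beta))

`card_le` : if `U` contains the Siegel elements of `e i` with centre `w ⊥ e j, e' j` (`j ≤ i`), then
`|U| ≥ |ker| · ∏ (|F|^(n-2i) q)`.
-/

set_option autoImplicit false

namespace Cfsg.Agent.ParSys.Polar.CardU

variable {G : Type*} [Group G] {F W : Type*} [Field F] [AddCommGroup W] [Module F W]

/-- a subgroup of a finite group with at least `|T|` cosets -/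
theorem card_mul_le [Finite G] {T : Type*} {A A' : Subgroup G} (hA : A' ≤ A) (x : T → G) (hx : ∀ t, x t ∈ A)
    (hinj : ∀ t t', (x t)⁻¹ * x t' ∈ A' → t = t') : Nat.card T * Nat.card A' ≤ Nat.card A := by
  rw [← Nat.card_prod]
  refine Nat.card_le_card_of_injective (fun a : T × A' => (⟨x a.1 * a.2, mul_mem (hx _) (hA a.2.2)⟩ : A)) ?_
  rintro ⟨t, a⟩ ⟨t', a'⟩ h
  have h1 : x t * (a : G) = x t' * (a' : G) := congrArg Subtype.val h
  have h2 : (x t)⁻¹ * x t' = (a : G) * (a' : G)⁻¹ := by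
    calc (x t)⁻¹ * x t' = (x t)⁻¹ * (x t' * a') * (a' : G)⁻¹ := by group
      _ = _ := by rw [← h1]; group
  have h3 := hinj t t' (by rw [h2]; exact mul_mem a.2 (inv_mem a'.2))
  subst h3
  rw [inv_mul_cancel] at h2
  have h4 : a = a' := Subtype.ext (mul_inv_eq_one.1 h2.symm)
  rw [h4]

/-- the data -/
structure Dat (F : Type*) {W : Type*} [Field F] [AddCommGroup W] [Module F W] (sg : F → F) (g : W → W → F)
    (rho : G → W → W) (U : Subgroup G) (m : ℕ) (e e' : ℕ → W) : Prop where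
  one : ∀ v, rho 1 v = v
  mul : ∀ x ∈ U, ∀ y ∈ U, ∀ v, rho (x * y) v = rho x (rho y v)
  sg_one : sg 1 = 1
  sg_add : ∀ a b, sg (a + b) = sg a + sg b
  g_add : ∀ v v' u, g (v + v') u = g v u + g v' u
  g_smul : ∀ (s : F) v u, g (s • v) u = s * g v u
  g_sym : ∀ v u, g u v = sg (g v u)
  ee' : ∀ i j, 1 ≤ i → i ≤ m → 1 ≤ j → j ≤ m → g (e' j) (e i) = if i = j then 1 else 0
  tr : ∀ w, ∃ a, a + sg a = g w w
  sieg : ∀ i, 1 ≤ i → i ≤ m → ∀ w, (∀ j, 1 ≤ j → j ≤ i → g w (e j) = 0 ∧ g w (e' j) = 0) → ∀ a, a + sg a = g w w →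
    ∃ x ∈ U, ∀ v, rho x v = v + g v (e i) • w + (g v w + a * g v (e i)) • e i

namespace Dat

variable {sg : F → F} {g : W → W → F} {rho : G → W → W} {U : Subgroup G} {m : ℕ} {e e' : ℕ → W}
  (h : Dat F sg g rho U m e e')
include h

theorem inv_self {x : G} (hx : x ∈ U) (v : W) : rho x⁻¹ (rho x v) = v := by
  rw [← h.mul _ (inv_mem hx) _ hx, inv_mul_cancel, h.one]

/-- the stabiliser of `e' 1, .., e' i` -/
def Uc (i : ℕ) : Subgroup G where
  carrier := {u | u ∈ U ∧ ∀ j, 1 ≤ j → j ≤ i → rho u (e' j) = e' j}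
  one_mem' := ⟨one_mem _, fun j _ _ => h.one _⟩
  mul_mem' := fun {a b} ha hb => ⟨mul_mem ha.1 hb.1, fun j h1 h2 => by
    rw [h.mul a ha.1 b hb.1, hb.2 j h1 h2, ha.2 j h1 h2]⟩
  inv_mem' := fun {a} ha => ⟨inv_mem ha.1, fun j h1 h2 => by
    have := h.inv_self ha.1 (e' j)
    rwa [ha.2 j h1 h2] at this⟩

theorem Uc_zero : h.Uc 0 = U := by
  ext u
  refine ⟨fun hu => hu.1, fun hu => ⟨hu, fun j h1 h2 => by omega⟩⟩

theorem Uc_anti (i : ℕ) : h.Uc (i + 1) ≤ h.Uc i := fun _ hu => ⟨hu.1, fun j h1 h2 => hu.2 j h1 (by omega)⟩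

/-- the centres of the Siegel elements of level `i` -/
def Ws (i : ℕ) : Submodule F W where
  carrier := {w | ∀ j, 1 ≤ j → j ≤ i → g w (e j) = 0 ∧ g w (e' j) = 0}
  zero_mem' := fun j _ _ => by
    have h1 : ∀ u, g 0 u = 0 := fun u => by
      have := h.g_smul 0 0 u
      rwa [zero_smul, zero_mul] at this
    exact ⟨h1 _, h1 _⟩
  add_mem' := fun {a b} ha hb j h1 h2 => by
    rw [h.g_add, h.g_add, (ha j h1 h2).1, (ha j h1 h2).2, (hb j h1 h2).1, (hb j h1 h2).2, add_zero]
    exact ⟨rfl, rfl⟩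
  smul_mem' := fun s a ha j h1 h2 => by
    rw [h.g_smul, h.g_smul, (ha j h1 h2).1, (ha j h1 h2).2, mul_zero]
    exact ⟨rfl, rfl⟩

/-- `|W| ≤ |W_i| |F|^(2i)` -/
theorem card_Ws [Finite F] [Finite W] (i : ℕ) :
    Nat.card W ≤ Nat.card (h.Ws i) * Nat.card F ^ (2 * i) := by
  let L : W →ₗ[F] (Fin i → F × F) :=
    { toFun := fun w j => (g w (e (j + 1)), g w (e' (j + 1)))
      map_add' := fun v v' => by ext j <;> simp [h.g_add]
      map_smul' := fun s v => by ext j <;> simp [h.g_smul] }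
  have hker : LinearMap.ker L = h.Ws i := by
    ext w
    rw [LinearMap.mem_ker]
    constructor
    · intro hw j h1 h2
      have h3 := congrFun hw ⟨j - 1, by omega⟩
      have h4 : j - 1 + 1 = j := by omega
      simp only [L, LinearMap.coe_mk, AddHom.coe_mk, Pi.zero_apply, h4] at h3
      exact ⟨congrArg Prod.fst h3, congrArg Prod.snd h3⟩
    · intro hw
      ext j
      · exact (hw (j + 1) (by omega) (by omega)).1
      · exact (hw (j + 1) (by omega) (by omega)).2
  have h1 : Nat.card W = Nat.card (LinearMap.ker L) * Nat.card (W ⧸ LinearMap.ker L) := by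
    rw [← Nat.card_prod]
    have := (LinearMap.ker L).card_eq_card_quotient_mul_card
    rw [this, Nat.card_prod, mul_comm]
  have h2 : Nat.card (W ⧸ LinearMap.ker L) ≤ Nat.card F ^ (2 * i) := by
    rw [Nat.card_congr L.quotKerEquivRange.toEquiv]
    have h3 : Nat.card (LinearMap.range L) ≤ Nat.card (Fin i → F × F) :=
      Nat.card_le_card_of_injective _ Subtype.val_injective
    refine h3.trans ?_
    rw [Nat.card_fun, Nat.card_prod, Nat.card_fin, pow_mul, pow_two]
  rw [h1, hker]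
  rw [hker] at h2
  exact Nat.mul_le_mul_left _ h2

theorem sg_zero : sg 0 = 0 := by
  have := h.sg_add 0 0
  rw [add_zero] at this
  exact left_eq_add.1 this

/-- the Siegel elements of level `i + 1` -/
theorem step [Finite G] (i : ℕ) (hi : i < m) :
    Nat.card (h.Ws (i + 1)) * Nat.card {a : F // a + sg a = 0} * Nat.card (h.Uc (i + 1)) ≤ Nat.card (h.Uc i) := by
  classical
  rw [← Nat.card_prod]
  have hx : ∀ t : (h.Ws (i + 1)) × {a : F // a + sg a = 0}, ∃ x ∈ U, ∀ v, rho x v = v + g v (e (i + 1)) • (t.1 : W) +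
      (g v t.1 + ((h.tr t.1).choose + t.2) * g v (e (i + 1))) • e (i + 1) := by
    rintro ⟨w, a⟩
    refine h.sieg (i + 1) (by omega) (by omega) w (fun j h1 h2 => w.2 j h1 h2) _ ?_
    have h1 := (h.tr w).choose_spec
    rw [h.sg_add]
    calc (h.tr w).choose + a + (sg (h.tr w).choose + sg a) =
        ((h.tr w).choose + sg (h.tr w).choose) + (a + sg a) := by ring
      _ = g w w := by rw [h1, a.2, add_zero]
  choose x hxU hxv using hx
  have hge : ∀ w : h.Ws (i + 1), ∀ j, 1 ≤ j → j ≤ i + 1 → g (e' j) w = 0 := by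
    intro w j h1 h2
    rw [h.g_sym, (w.2 j h1 h2).2, h.sg_zero]
  refine card_mul_le (h.Uc_anti i) x (fun t => ⟨hxU t, fun j h1 h2 => ?_⟩) ?_
  · rw [hxv, h.ee' (i + 1) j (by omega) (by omega) h1 (by omega), if_neg (by omega), hge t.1 j h1 (by omega)]
    simp
  · intro t t' htt
    have h1 := htt.2 (i + 1) (by omega) le_rfl
    rw [h.mul _ (inv_mem (hxU t)) _ (hxU t')] at h1
    have h2 : rho (x t') (e' (i + 1)) = rho (x t) (e' (i + 1)) := by
      have h3 := congrArg (rho (x t)) h1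
      rw [← h.mul _ (hxU t) _ (inv_mem (hxU t)), mul_inv_cancel, h.one] at h3
      exact h3
    rw [hxv, hxv, h.ee' (i + 1) (i + 1) (by omega) (by omega) (by omega) (by omega), if_pos rfl,
      hge t.1 _ (by omega) le_rfl, hge t'.1 _ (by omega) le_rfl, one_smul, one_smul, zero_add, zero_add,
      mul_one, mul_one, add_assoc, add_assoc, add_left_cancel_iff] at h2
    have h4 : ∀ t : (h.Ws (i + 1)) × {a : F // a + sg a = 0},
        g ((t.1 : W) + ((h.tr t.1).choose + t.2) • e (i + 1)) (e' (i + 1)) = (h.tr t.1).choose + t.2 := by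
      intro t
      rw [h.g_add, h.g_smul, (t.1.2 (i + 1) (by omega) le_rfl).2, h.g_sym (e' (i + 1)) (e (i + 1)),
        h.ee' (i + 1) (i + 1) (by omega) (by omega) (by omega) (by omega), if_pos rfl, h.sg_one, mul_one, zero_add]
    have h5 : (h.tr t'.1).choose + (t'.2 : F) = (h.tr t.1).choose + t.2 := by
      rw [← h4 t', ← h4 t, h2]
    rw [h5] at h2
    have h6 : (t'.1 : W) = t.1 := add_right_cancel h2
    have h7 : t'.1 = t.1 := Subtype.ext h6
    rw [h7] at h5
    exact Prod.ext h7.symm (Subtype.ext (add_left_cancel h5).symm)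

/-- **the order of `U`** -/
theorem card_le' [Finite G] {k : ℕ} (hk : k ≤ m) :
    (∏ i ∈ Finset.range k, (Nat.card (h.Ws (i + 1)) * Nat.card {a : F // a + sg a = 0})) *
      Nat.card (h.Uc k) ≤ Nat.card U := by
  induction k with
  | zero => rw [Finset.prod_range_zero, one_mul, h.Uc_zero]
  | succ k ih =>
    rw [Finset.prod_range_succ, mul_assoc]
    exact (Nat.mul_le_mul_left _ (h.step k (by omega))).trans (ih (by omega))

/-- **the order of `U`**, `Q` the kernel -/
theorem card_le [Finite G] [Finite F] [Finite W] {Q : Subgroup G} (hQ : Q ≤ U) (hQv : ∀ x ∈ Q, ∀ v, rho x v = v)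
    {n q : ℕ} (hn : Nat.card W = Nat.card F ^ n) (hq : Nat.card F = q ^ 2)
    (hq' : q ≤ Nat.card {a : F // a + sg a = 0}) (hnm : n = 2 * m ∨ n = 2 * m + 1) :
    Nat.card Q * q ^ (n * (n - 1) / 2) ≤ Nat.card U := by
  have hF : 0 < Nat.card F := Nat.card_pos
  have hq0 : 0 < q := by
    rcases Nat.eq_zero_or_pos q with h0 | h0
    · rw [h0] at hq; simp at hq; omega
    · exact h0
  have hQU : Nat.card Q ≤ Nat.card (h.Uc m) := by
    have h1 : Q ≤ h.Uc m := fun x hx => ⟨hQ hx, fun j _ _ => hQv x hx _⟩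
    exact Subgroup.card_le_of_le h1
  have hW : ∀ i, i < m → q ^ (2 * (n - 2 * (i + 1)) + 1) ≤
      Nat.card (h.Ws (i + 1)) * Nat.card {a : F // a + sg a = 0} := by
    intro i hi
    have h1 := h.card_Ws (i + 1)
    rw [hn] at h1
    have h2 : Nat.card F ^ n = Nat.card F ^ (n - 2 * (i + 1)) * Nat.card F ^ (2 * (i + 1)) := by
      rw [← pow_add]; congr 1; omega
    rw [h2] at h1
    have h3 := Nat.le_of_mul_le_mul_right h1 (by positivity)
    rw [hq, ← pow_mul] at h3
    rw [pow_succ]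
    exact Nat.mul_le_mul h3 hq'
  have hprod : ∀ k ≤ m, q ^ (k * (2 * n - 2 * k - 1)) ≤
      ∏ i ∈ Finset.range k, (Nat.card (h.Ws (i + 1)) * Nat.card {a : F // a + sg a = 0}) := by
    intro k hk
    induction k with
    | zero => simp
    | succ k ih =>
      rw [Finset.prod_range_succ]
      refine le_trans ?_ (Nat.mul_le_mul (ih (by omega)) (hW k (by omega)))
      rw [← pow_add]
      apply le_of_eq
      congr 1
      obtain ⟨r, rfl⟩ : ∃ r, n = 2 * (k + 1) + r := ⟨n - 2 * (k + 1), by omega⟩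
      have e1 : 2 * (2 * (k + 1) + r) - 2 * (k + 1) - 1 = 2 * k + 1 + 2 * r := by omega
      have e2 : 2 * (2 * (k + 1) + r) - 2 * k - 1 = 2 * k + 3 + 2 * r := by omega
      have e3 : 2 * (k + 1) + r - 2 * (k + 1) = r := by omega
      rw [e1, e2, e3]
      ring
  have h1 := h.card_le' (k := m) le_rfl
  refine le_trans ?_ h1
  rw [mul_comm]
  refine Nat.mul_le_mul ?_ hQU
  have e : n * (n - 1) / 2 = m * (2 * n - 2 * m - 1) := by
    rcases hnm with rfl | rfl
    · rcases m with _ | m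
      · rfl
      · have e1 : 2 * (m + 1) - 1 = 2 * m + 1 := by omega
        have e2 : 2 * (2 * (m + 1)) - 2 * (m + 1) - 1 = 2 * m + 1 := by omega
        rw [e1, e2]
        have e3 : 2 * (m + 1) * (2 * m + 1) = 2 * ((m + 1) * (2 * m + 1)) := by ring
        rw [e3, Nat.mul_div_cancel_left _ two_pos]
    · have e1 : 2 * m + 1 - 1 = 2 * m := by omega
      have e2 : 2 * (2 * m + 1) - 2 * m - 1 = 2 * m + 1 := by omega
      rw [e1, e2]
      have e3 : (2 * m + 1) * (2 * m) = 2 * (m * (2 * m + 1)) := by ring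
      rw [e3, Nat.mul_div_cancel_left _ two_pos]
  rw [e]
  exact hprod m le_rfl

end Dat

/-! ### The dual vectors -/

section dual

variable {sg : F → F} {g : W → W → F} {m : ℕ} {f : ℕ → Submodule F W} {e : ℕ → W}

theorem indep (hmono : ∀ d < m, f d ≤ f (d + 1)) (he : ∀ d < m, e (d + 1) ∈ f (d + 1))
    (hne : ∀ d < m, e (d + 1) ∉ f d) {k : ℕ} (hk : k ≤ m) (c : ℕ → F)
    (h : ∑ i ∈ Finset.range k, c i • e (i + 1) = 0) : ∀ i < k, c i = 0 := by
  have hle : ∀ a b, a ≤ b → b ≤ m → f a ≤ f b := by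
    intro a b hab hb
    induction b, hab using Nat.le_induction with
    | base => exact le_rfl
    | succ b hab ih => exact (ih (by omega)).trans (hmono b (by omega))
  induction k with
  | zero => intro i hi; omega
  | succ k ih =>
    rw [Finset.sum_range_succ] at h
    have h1 : ∑ i ∈ Finset.range k, c i • e (i + 1) ∈ f k :=
      Submodule.sum_mem _ fun i hi => (f k).smul_mem _
        (hle (i + 1) k (by have := Finset.mem_range.1 hi; omega) (by omega) (he i (by
          have := Finset.mem_range.1 hi; omega)))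
    have h2 : c k = 0 := by
      by_contra hc
      apply hne k (by omega)
      have h3 : c k • e (k + 1) ∈ f k := by
        have h4 : c k • e (k + 1) = - ∑ i ∈ Finset.range k, c i • e (i + 1) := by
          rw [eq_neg_iff_add_eq_zero, add_comm]; exact h
        rw [h4]; exact neg_mem h1
      have h5 := (f k).smul_mem (c k)⁻¹ h3
      rwa [smul_smul, inv_mul_cancel₀ hc, one_smul] at h5
    rw [h2, zero_smul, add_zero] at h
    intro i hi
    by_cases hik : i = k
    · subst hik; exact h2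
    · exact ih (by omega) h i (by omega)

theorem exists_dual (g_add : ∀ v v' u, g (v + v') u = g v u + g v' u)
    (g_smul : ∀ (s : F) v u, g (s • v) u = s * g v u) (g_sym : ∀ v u, g u v = sg (g v u))
    (sg_add : ∀ a b, sg (a + b) = sg a + sg b) (sg_mul : ∀ a b, sg (a * b) = sg a * sg b)
    (sg_sg : ∀ a, sg (sg a) = a) (nondeg : ∀ w, (∀ u, g u w = 0) → w = 0)
    (hmono : ∀ d < m, f d ≤ f (d + 1)) (he : ∀ d < m, e (d + 1) ∈ f (d + 1))
    (hne : ∀ d < m, e (d + 1) ∉ f d) :
    ∃ e' : ℕ → W, ∀ i j, 1 ≤ i → i ≤ m → 1 ≤ j → j ≤ m → g (e' j) (e i) = if i = j then 1 else 0 := by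
  classical
  have sg_zero : sg 0 = 0 := by
    have := sg_add 0 0
    rw [add_zero] at this
    exact left_eq_add.1 this
  have g_add' : ∀ v u u', g v (u + u') = g v u + g v u' := fun v u u' => by
    rw [g_sym, g_add, sg_add, ← g_sym, ← g_sym]
  have g_smul' : ∀ (s : F) v u, g v (s • u) = sg s * g v u := fun s v u => by
    rw [g_sym, g_smul, sg_mul, ← g_sym]
  have g_zero' : ∀ v, g v 0 = 0 := fun v => by
    have := g_add' v 0 0
    rw [add_zero] at this
    exact left_eq_add.1 this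
  let L : W →ₗ[F] (Fin m → F) :=
    { toFun := fun v i => g v (e (i + 1))
      map_add' := fun v v' => by ext i; simp [g_add]
      map_smul' := fun s v => by ext i; simp [g_smul] }
  have hL : LinearMap.range L = ⊤ := by
    by_contra hcon
    obtain ⟨φ, hφ, hle⟩ := Submodule.exists_le_ker_of_lt_top _ (lt_top_iff_ne_top.2 hcon)
    apply hφ
    let c : ℕ → F := fun i => if hi : i < m then φ (Pi.single ⟨i, hi⟩ 1) else 0
    have h1 : ∀ v, g v (∑ i ∈ Finset.range m, sg (c i) • e (i + 1)) = φ (L v) := by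
      intro v
      have h2 : ∀ s : Finset ℕ, g v (∑ i ∈ s, sg (c i) • e (i + 1)) = ∑ i ∈ s, c i * g v (e (i + 1)) := by
        intro s
        induction s using Finset.induction_on with
        | empty => rw [Finset.sum_empty, Finset.sum_empty, g_zero']
        | insert a s ha ih => rw [Finset.sum_insert ha, Finset.sum_insert ha, g_add', g_smul', sg_sg, ih]
      rw [h2, Finset.sum_range]
      have h3 : L v = ∑ i : Fin m, (L v i) • (Pi.single i (1 : F) : Fin m → F) := by
        ext j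
        simp [Finset.sum_apply, Pi.single_apply]
      rw [h3, map_sum]
      refine Finset.sum_congr rfl fun i _ => ?_
      rw [map_smul, smul_eq_mul, mul_comm]
      have h4 : c i = φ (Pi.single i 1) := by
        simp only [c, i.2, dif_pos]
      rw [h4]
      rfl
    have h5 := nondeg _ (fun u => by
      rw [h1]
      exact LinearMap.mem_ker.1 (hle ⟨u, rfl⟩))
    have h6 := indep hmono he hne le_rfl (fun i => sg (c i)) h5
    apply LinearMap.ext
    intro x
    have h7 : x = ∑ i : Fin m, (x i) • (Pi.single i (1 : F) : Fin m → F) := by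
      ext j
      simp [Finset.sum_apply, Pi.single_apply]
    rw [h7, map_sum, LinearMap.zero_apply]
    refine Finset.sum_eq_zero fun i _ => ?_
    have h8 := h6 i i.2
    have h9 : c i = 0 := by rw [← sg_sg (c i), h8, sg_zero]
    have h4 : c i = φ (Pi.single i 1) := by
      simp only [c, i.2, dif_pos]
    rw [map_smul, ← h4, h9, smul_zero]
  have hsurj : ∀ j : Fin m, ∃ v, L v = Pi.single j 1 := fun j => by
    have : (Pi.single j (1 : F) : Fin m → F) ∈ LinearMap.range L := by rw [hL]; trivial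
    exact this
  choose v hv using hsurj
  refine ⟨fun j => if hj : 1 ≤ j ∧ j ≤ m then v ⟨j - 1, by omega⟩ else 0, ?_⟩
  intro i j hi1 hi hj1 hj
  have h1 := congrFun (hv ⟨j - 1, by omega⟩) ⟨i - 1, by omega⟩
  have h2 : g (v ⟨j - 1, by omega⟩) (e (i - 1 + 1)) = (Pi.single (⟨j - 1, by omega⟩ : Fin m) (1 : F) : Fin m → F)
    ⟨i - 1, by omega⟩ := h1
  have h3 : i - 1 + 1 = i := by omega
  rw [h3] at h2
  simp only [hj1, hj, and_self, dif_pos]
  rw [h2, Pi.single_apply]
  by_cases hij : i = j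
  · subst hij; simp
  · rw [if_neg (by rw [Fin.mk.injEq]; omega), if_neg hij]

end dual

end Cfsg.Agent.ParSys.Polar.CardU

end

section


/-!
# The unipotent group of a flag in a hermitian space

`Pol` : all the data (`C` acts on a hermitian space of Witt index `m`, `f` is a maximal flag).
`Un` : the elements of `C` which act linearly and isometrically and centralise the factors of
`0 < f 1 < ... < f m ≤ (f m)^⊥`.

* `Pol.un_le`, `Pol.pan`, `Pol.clo` : as required in `FreeLoc.SysL`;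
* `Pol.siegel_mem` : the Siegel elements of `Un`; `Pol.card_un` : the order of `Un`;
* `Pol.rk_two`, `Pol.rk_three`, `Pol.rk_four`, `Pol.relIndex_lt`, `Pol.relIndex_last`, `Pol.gen`.
-/

set_option autoImplicit false
set_option linter.unusedSectionVars false

namespace Cfsg.Agent.ParSys.Polar.Unip

open Module Cfsg.Agent.ParSys.Polar.Flags Cfsg.Agent.ParSys.Polar.Hermit Cfsg.Agent.ParSys.Polar.Incid

variable {F W : Type*} [Field F] [AddCommGroup W] [Module F W] {G : Type*} [Group G]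

/-- `C` acts on a hermitian space of Witt index `m`, `f` is a maximal flag -/
structure Pol (C : Subgroup G) (q : ℕ) (sg : F →+* F) (g : W → W → F) (rho : ↥C → W ≃+ W)
    (sigma : ↥C →* Equiv.Perm (Submodule F W)) (m : ℕ) (f : ℕ → Submodule F W) : Prop where
  H : Herm q sg g
  A : HAct sg g rho sigma
  hm : Witt g m
  hf : Fl (TI g (F := F)) m f

/-- the conditions for the elements of the unipotent group of the flag -/
structure IsUn {C : Subgroup G} (g : W → W → F) (rho : ↥C → W ≃+ W)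
    (sigma : ↥C →* Equiv.Perm (Submodule F W)) (m : ℕ) (f : ℕ → Submodule F W) (c : ↥C) : Prop where
  fix : ∀ d ≤ m, sigma c (f d) = f d
  lin : ∀ (s : F) v, rho c (s • v) = s • rho c v
  iso : ∀ u v, g (rho c u) (rho c v) = g u v
  step : ∀ d < m, ∀ v ∈ f (d + 1), rho c v - v ∈ f d
  last : ∀ v, (∀ x ∈ f m, g v x = 0) → rho c v - v ∈ f m

variable {C : Subgroup G} {q : ℕ} {sg : F →+* F} {g : W → W → F} {rho : ↥C → W ≃+ W}
  {sigma : ↥C →* Equiv.Perm (Submodule F W)} {m : ℕ} {f : ℕ → Submodule F W}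

/-- **the unipotent group of the flag** -/
def Un (A : HAct sg g rho sigma) (m : ℕ) (f : ℕ → Submodule F W) : Subgroup G where
  carrier := {x | ∃ h : x ∈ C, IsUn g rho sigma m f ⟨x, h⟩}
  one_mem' := by
    refine ⟨C.one_mem, ?_⟩
    rw [show (⟨1, C.one_mem⟩ : ↥C) = 1 from rfl]
    refine ⟨fun d _ => by rw [map_one]; rfl, fun s v => by rw [A.one, A.one], fun u v => by rw [A.one, A.one],
      fun d _ v _ => ?_, fun v _ => ?_⟩
    · rw [A.one, sub_self]; exact Submodule.zero_mem _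
    · rw [A.one, sub_self]; exact Submodule.zero_mem _
  mul_mem' := by
    rintro x y ⟨hx, h1⟩ ⟨hy, h2⟩
    refine ⟨mul_mem hx hy, ?_⟩
    rw [show (⟨x * y, mul_mem hx hy⟩ : ↥C) = ⟨x, hx⟩ * ⟨y, hy⟩ from rfl]
    have key : ∀ d ≤ m, ∀ v, rho ⟨x, hx⟩ v - v ∈ f d → rho ⟨y, hy⟩ v - v ∈ f d →
        rho (⟨x, hx⟩ * ⟨y, hy⟩) v - v ∈ f d := by
      intro d hd v h3 h4
      rw [A.mul]
      have h5 : rho ⟨x, hx⟩ (rho ⟨y, hy⟩ v) - v
          = rho ⟨x, hx⟩ (rho ⟨y, hy⟩ v - v) + (rho ⟨x, hx⟩ v - v) := by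
        rw [map_sub]; abel
      rw [h5]
      refine Submodule.add_mem _ ?_ h3
      rw [← h1.fix d hd]
      exact A.mem h4
    refine ⟨fun d hd => by rw [map_mul, Equiv.Perm.mul_apply, h2.fix d hd, h1.fix d hd],
      fun s v => by rw [A.mul, A.mul, h2.lin, h1.lin], fun u v => by rw [A.mul, A.mul, h1.iso, h2.iso],
      fun d hd v hv => key d hd.le v (h1.step d hd v hv) (h2.step d hd v hv),
      fun v hv => key m le_rfl v (h1.last v hv) (h2.last v hv)⟩
  inv_mem' := by
    rintro x ⟨hx, h1⟩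
    refine ⟨inv_mem hx, ?_⟩
    rw [show (⟨x⁻¹, inv_mem hx⟩ : ↥C) = (⟨x, hx⟩ : ↥C)⁻¹ from rfl]
    have fix' : ∀ d ≤ m, sigma (⟨x, hx⟩ : ↥C)⁻¹ (f d) = f d := fun d hd => by
      rw [map_inv, Equiv.Perm.inv_eq_iff_eq, h1.fix d hd]
    have key : ∀ d ≤ m, ∀ v, rho ⟨x, hx⟩ v - v ∈ f d → rho (⟨x, hx⟩ : ↥C)⁻¹ v - v ∈ f d := by
      intro d hd v h3
      have h5 : rho (⟨x, hx⟩ : ↥C)⁻¹ v - v = - rho (⟨x, hx⟩ : ↥C)⁻¹ (rho ⟨x, hx⟩ v - v) := by
        rw [map_sub, A.inv_mul_apply]; abel
      rw [h5]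
      refine Submodule.neg_mem _ ?_
      rw [← fix' d hd]
      exact A.mem h3
    refine ⟨fix', fun s v => ?_, fun u v => ?_, fun d hd v hv => key d hd.le v (h1.step d hd v hv),
      fun v hv => key m le_rfl v (h1.last v hv)⟩
    · apply (rho ⟨x, hx⟩).injective
      rw [A.mul_inv_apply, h1.lin, A.mul_inv_apply]
    · rw [← h1.iso, A.mul_inv_apply, A.mul_inv_apply]

theorem mem_un {A : HAct sg g rho sigma} {x : G} :
    x ∈ Un A m f ↔ ∃ h : x ∈ C, IsUn g rho sigma m f ⟨x, h⟩ := Iff.rfl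

theorem un_le (A : HAct sg g rho sigma) : Un A m f ≤ fst C sigma m f ∅ :=
  fun _ hx => ⟨hx.1, fun d hd _ => hx.2.fix d hd⟩

namespace Pol

variable (p : Pol C q sg g rho sigma m f)

include p

theorem finF : Finite F := p.H.finite_F

/-- the Siegel transformations are isometries -/
theorem siegel_iso {c : ↥C} {y w : W} {a : F} (hy : g y y = 0) (hw : g w y = 0) (ha : a + sg a = g w w)
    (hc : ∀ v, rho c v = v + g v y • w + (g v w + a * g v y) • y) (u v : W) :
    g (rho c u) (rho c v) = g u v := by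
  have H := p.H
  have h1 : g y w = 0 := H.zero_comm hw
  have h2 : g y v = sg (g v y) := H.sym v y
  have h3 : g w v = sg (g v w) := H.sym v w
  rw [hc, hc]
  simp only [H.add, H.add_r, H.smul, H.smul_r, hy, hw, h1, h2, h3, map_add, map_mul, mul_zero, add_zero]
  have e1 := H.two_self (sg (g v y) * g u w)
  have e2 := H.two_self (g u y * sg (g v w))
  have e3 := H.two_self (g u y * sg (g v y) * g w w)
  linear_combination e1 + e2 + e3 + (g u y * sg (g v y)) * ha

variable [FiniteDimensional F W]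

theorem polSp : PolSp (TI g (F := F)) m := p.H.polSp p.hm

theorem act : Act sigma (TI g (F := F)) := by
  have := p.finF
  exact HAct.act p.H p.A

/-- an element which acts as a Siegel transformation with singular vector in `f i` and centre in `(f i)^⊥` -/
theorem isUn_siegel {i : ℕ} (him : i ≤ m) {y w : W} {a : F} (hy : y ∈ f i)
    (hw : w ∈ p.H.perp (f i)) (ha : a + sg a = g w w) {c : ↥C}
    (hc : ∀ v, rho c v = v + g v y • w + (g v w + a * g v y) • y) : IsUn g rho sigma m f c := by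
  have hym : y ∈ f m := p.hf.le him le_rfl hy
  have H := p.H
  have hfin := p.finF
  have k1 : ∀ v, (∀ x ∈ f m, g v x = 0) → rho c v - v = g v w • y := fun v hv => by
    rw [hc, hv y hym]; simp
  have k2 : ∀ d ≤ m, ∀ v ∈ f d, rho c v - v = g v w • y := fun d hd v hv =>
    k1 v (fun x hx => p.hf.sing v (p.hf.le hd le_rfl hv) x hx)
  have k3 : ∀ v ∈ f i, g v w = 0 := fun v hv => H.zero_comm (hw v hv)
  have k4 : ∀ d ≤ m, ∀ v ∈ f d, rho c v - v ∈ f d := fun d hd v hv => by
    rw [k2 d hd v hv]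
    by_cases hdi : d ≤ i
    · rw [k3 v (p.hf.le hdi him hv), zero_smul]; exact Submodule.zero_mem _
    · exact Submodule.smul_mem _ _ (p.hf.le (by omega) hd hy)
  refine ⟨fun d hd => ?_, fun s v => ?_, fun u v => p.siegel_iso
    (p.hf.sing y hym y hym) (hw y hy) ha hc u v, fun d hd v hv => ?_, fun v hv => ?_⟩
  · apply eq_of_rk
    · intro z hz
      obtain ⟨v, hv, rfl⟩ := (p.A.sig _ _ _).1 hz
      have h1 := Submodule.add_mem _ (k4 d hd v hv) hv
      rwa [sub_add_cancel] at h1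
    · exact p.A.card_eq _ _
  · rw [hc, hc, H.smul, H.smul, smul_add, smul_add, smul_smul, smul_smul]
    congr 2
    ring
  · rw [k2 (d + 1) hd v hv]
    by_cases hdi : d + 1 ≤ i
    · rw [k3 v (p.hf.le hdi him hv), zero_smul]; exact Submodule.zero_mem _
    · exact Submodule.smul_mem _ _ (p.hf.le (by omega) (by omega) hy)
  · rw [k1 v hv]
    exact Submodule.smul_mem _ _ hym

/-- an element which acts trivially -/
theorem isUn_triv {c : ↥C} (h1 : ∀ v, rho c v = v) : IsUn g rho sigma m f c :=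
  ⟨fun d _ => p.A.eq_of_fix fun v _ => h1 v, fun s v => by rw [h1, h1],
    fun u v => by rw [h1, h1], fun d _ v _ => by rw [h1, sub_self]; exact Submodule.zero_mem _,
    fun v _ => by rw [h1, sub_self]; exact Submodule.zero_mem _⟩

/-- the Siegel elements of `Un` -/
theorem siegel_mem {i : ℕ} (him : i ≤ m) {y w : W} {a : F} (hy : y ∈ f i)
    (hw : w ∈ p.H.perp (f i)) (ha : a + sg a = g w w) :
    ∃ x ∈ Un p.A m f, ∃ h : x ∈ C, ∀ v, rho ⟨x, h⟩ v = v + g v y • w + (g v w + a * g v y) • y := by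
  have hym : y ∈ f m := p.hf.le him le_rfl hy
  obtain ⟨c, hc⟩ := p.A.siegel y w a (p.hf.sing y hym y hym) (hw y hy) ha
  exact ⟨(c : G), ⟨c.2, p.isUn_siegel him hy hw ha hc⟩, c.2, hc⟩

/-- **the order of the unipotent group** -/
theorem card_un [Finite G] {Q : Subgroup G} (hQC : Q ≤ C) (hQ : ∀ x (h : x ∈ Q) v, rho ⟨x, hQC h⟩ v = v) :
    Nat.card Q * q ^ (finrank F W * (finrank F W - 1) / 2) ≤ Nat.card (Un p.A m f) := by
  classical
  have hfin := p.finF
  have hW : Finite W := Module.finite_of_finite F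
  have H := p.H
  have hex : ∀ d, ∃ v, d < m → v ∈ f (d + 1) ∧ v ∉ f d := by
    intro d
    by_cases hd : d < m
    · obtain ⟨v, -, -, h1, h2⟩ := HAct.exists_gen H (p.hf.si p.polSp (d := d + 1) hd) (p.hf.mono d hd)
        (by rw [p.hf.rk _ hd, p.hf.rk _ hd.le])
      exact ⟨v, fun _ => ⟨by rw [h2]; exact Submodule.mem_sup_right (Submodule.mem_span_singleton_self v), h1⟩⟩
    · exact ⟨0, fun h => absurd h hd⟩
  choose e₀ he₀ using hex
  let e : ℕ → W := fun d => e₀ (d - 1)
  have he1 : ∀ d < m, e (d + 1) ∈ f (d + 1) := fun d hd => (he₀ d hd).1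
  have he2 : ∀ d < m, e (d + 1) ∉ f d := fun d hd => (he₀ d hd).2
  obtain ⟨e', he'⟩ := CardU.exists_dual (sg := sg) (g := g) (f := f) (e := e) H.add H.smul H.sym
    (map_add sg) (map_mul sg) H.sg_sg (fun w hw => H.nd w fun u => H.zero_comm (hw u)) p.hf.mono he1 he2
  -- `f i` is spanned by the `e j`
  have hspan : ∀ i ≤ m, ∀ w, (∀ j, 1 ≤ j → j ≤ i → g w (e j) = 0) → w ∈ H.perp (f i) := by
    intro i
    induction i with
    | zero =>
      intro _ w _ x hx
      rw [p.hf.zero, Submodule.mem_bot] at hx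
      rw [hx]; exact H.zero_r w
    | succ i ih =>
      intro hi w hw
      have h1 : f (i + 1) = f i ⊔ (F ∙ e (i + 1)) := H.eq_sup (p.hf.mono i hi) (he1 i hi) (he2 i hi)
        (by rw [p.hf.rk _ hi, p.hf.rk i (by omega)])
      rw [h1, H.mem_perp_sup, H.mem_perp_span]
      exact ⟨ih (by omega) w fun j h1 h2 => hw j h1 (by omega), hw (i + 1) (by omega) le_rfl⟩
  let rho' : G → W → W := fun x v => if h : x ∈ C then rho ⟨x, h⟩ v else v
  have hr : ∀ x (h : x ∈ C) v, rho' x v = rho ⟨x, h⟩ v := fun x h v => dif_pos h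
  have hUC : ∀ x ∈ Un p.A m f, x ∈ C := fun x hx => hx.1
  have D : CardU.Dat F sg g rho' (Un p.A m f) m e e' :=
    { one := fun v => by rw [hr 1 C.one_mem]; exact p.A.one v
      mul := fun x hx y hy v => by
        rw [hr _ (mul_mem (hUC x hx) (hUC y hy)), hr x (hUC x hx), hr y (hUC y hy)]
        exact p.A.mul ⟨x, hUC x hx⟩ ⟨y, hUC y hy⟩ v
      sg_one := map_one sg
      sg_add := map_add sg
      g_add := H.add
      g_smul := H.smul
      g_sym := H.sym
      ee' := he'
      tr := fun w => H.tr_surj _ (H.sg_diag w)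
      sieg := by
        intro i hi1 hi w hw a ha
        obtain ⟨d, rfl⟩ := Nat.exists_eq_add_of_le' hi1
        obtain ⟨x, hx, h, h1⟩ := p.siegel_mem hi (he1 d hi)
          (hspan _ hi w fun j h1 h2 => (hw j h1 h2).1) ha
        exact ⟨x, hx, fun v => by rw [hr x h]; exact h1 v⟩ }
  refine D.card_le (Q := Q) ?_ (fun x hx v => ?_) (Module.natCard_eq_pow_finrank (K := F)) H.card
    (by rw [← H.tr_ker]; exact le_rfl) (H.finrank_eq p.hm)
  · intro x hx
    have h1 : ∀ v, rho ⟨x, hQC hx⟩ v = v := fun v => hQ x hx v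
    refine ⟨hQC hx, ⟨fun d _ => p.A.eq_of_fix fun v _ => h1 v, fun s v => by rw [h1, h1],
      fun u v => by rw [h1, h1], fun d _ v _ => ?_, fun v _ => ?_⟩⟩
    · rw [h1, sub_self]; exact Submodule.zero_mem _
    · rw [h1, sub_self]; exact Submodule.zero_mem _
  · rw [hr x (hQC hx)]; exact hQ x hx v

/-! ### The panels -/

/-- an invariant member of the panel -/
theorem sub_mem {c : ↥C} {X : Submodule F W} (h : sigma c X = X) {v : W} (hv : v ∈ X) : rho c v - v ∈ X := by
  refine Submodule.sub_mem _ ?_ hv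
  rw [← h]; exact p.A.mem hv

theorem inf_eq {i : ℕ} (hi : i < m) {X : Submodule F W} (hX : X ∈ Flags.Pan (TI g) m f (i + 1))
    (hne : X ≠ f (i + 1)) : X ⊓ f (i + 1) = f i := by
  symm
  apply eq_of_rk (le_inf (hX.2.2.1 i rfl) (p.hf.mono i hi))
  have h1 := Submodule.finrank_mono (le_inf (hX.2.2.1 i rfl) (p.hf.mono i hi))
  have h2 : finrank F ↥(X ⊓ f (i + 1)) < i + 1 := by
    rcases (Submodule.finrank_mono (inf_le_left : X ⊓ f (i + 1) ≤ X)).lt_or_eq with h | h
    · rwa [hX.2.1] at h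
    · exfalso
      have h3 := eq_of_rk inf_le_left h
      have h4 : X ≤ f (i + 1) := by rw [← h3]; exact inf_le_right
      exact hne (eq_of_rk h4 (by rw [hX.2.1, p.hf.rk _ hi]))
  rw [p.hf.rk i hi.le] at h1 ⊢
  omega

/-- `[f (i+2), u] ≤ f i` -/
theorem key_lt {i : ℕ} (hi : i + 1 < m) {X : Submodule F W} (hX : X ∈ Flags.Pan (TI g) m f (i + 1))
    (hne : X ≠ f (i + 1)) {c : ↥C} (hc : IsUn g rho sigma m f c) (hcX : sigma c X = X) {v : W}
    (hv : v ∈ f (i + 2)) : rho c v - v ∈ f i := by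
  have h1 : f (i + 1) ⊔ X = f (i + 2) := by
    have h2 : f (i + 1) ⊔ X ≤ f (i + 2) := sup_le (p.hf.mono _ hi) (hX.2.2.2 hi)
    apply eq_of_rk h2
    have h3 := Submodule.finrank_sup_add_finrank_inf_eq (f (i + 1)) X
    rw [inf_comm, p.inf_eq (by omega) hX hne, p.hf.rk _ hi.le, hX.2.1, p.hf.rk i (by omega)] at h3
    rw [p.hf.rk _ hi]
    omega
  rw [← h1] at hv
  obtain ⟨a, ha, b, hb, rfl⟩ := Submodule.mem_sup.1 hv
  have h2 : rho c (a + b) - (a + b) = (rho c a - a) + (rho c b - b) := by rw [map_add]; abel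
  rw [h2]
  refine Submodule.add_mem _ (hc.step i (by omega) a ha) ?_
  rw [← p.inf_eq (by omega) hX hne]
  exact ⟨p.sub_mem hcX hb, hc.step (i + 1) hi b (hX.2.2.2 hi hb)⟩

/-- `[(f i)^⊥, u] ≤ f i`, `m = i + 1` -/
theorem key_last {i : ℕ} (hi : i + 1 = m) {X : Submodule F W} (hX : X ∈ Flags.Pan (TI g) m f (i + 1))
    (hne : X ≠ f (i + 1)) {c : ↥C} (hc : IsUn g rho sigma m f c) (hcX : sigma c X = X) {v : W}
    (hv : v ∈ p.H.perp (f i)) : rho c v - v ∈ f i := by
  have H := p.H
  have hfin := p.finF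
  have hinf := p.inf_eq (by omega) hX hne
  have hfX : f i ≤ X := hX.2.2.1 i rfl
  obtain ⟨e, hee, he1, he2, he3⟩ := HAct.exists_gen H p.hf.sing (p.hf.le (a := i) (by omega) le_rfl)
    (by rw [p.hf.rk _ le_rfl, p.hf.rk i (by omega), hi])
  obtain ⟨x, hxx, hx1, hx2, hx3⟩ := HAct.exists_gen H hX.1 hfX (by rw [hX.2.1, p.hf.rk i (by omega)])
  have hem : e ∈ f m := by rw [he3]; exact Submodule.mem_sup_right (Submodule.mem_span_singleton_self e)
  have hxX : x ∈ X := by rw [hx3]; exact Submodule.mem_sup_right (Submodule.mem_span_singleton_self x)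
  have hxe : g x e ≠ 0 := by
    intro h
    have h1 : x ∈ f m := H.mem_of_iso p.hm p.hf hxx (by
      rw [he3, H.mem_perp_sup, H.mem_perp_span]; exact ⟨hx1, h⟩)
    rw [← hi] at h1
    exact hx2 (by rw [← hinf]; exact ⟨hxX, h1⟩)
  have hex := H.ne_comm hxe
  -- elements of `X` orthogonal to `e`, elements of `f m` orthogonal to `x`
  have k1 : ∀ z ∈ X, g z e = 0 → z ∈ f i := by
    intro z hz h
    rw [hx3] at hz
    obtain ⟨a, ha, b, hb, rfl⟩ := Submodule.mem_sup.1 hz
    obtain ⟨r, rfl⟩ := Submodule.mem_span_singleton.1 hb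
    rw [H.add, H.smul, H.zero_comm (he1 a ha), zero_add] at h
    rcases mul_eq_zero.1 h with h | h
    · rw [h, zero_smul, add_zero]; exact ha
    · exact absurd h hxe
  have k2 : ∀ z ∈ f m, g z x = 0 → z ∈ f i := by
    intro z hz h
    rw [he3] at hz
    obtain ⟨a, ha, b, hb, rfl⟩ := Submodule.mem_sup.1 hz
    obtain ⟨r, rfl⟩ := Submodule.mem_span_singleton.1 hb
    rw [H.add, H.smul, H.zero_comm (hx1 a ha), zero_add] at h
    rcases mul_eq_zero.1 h with h | h
    · rw [h, zero_smul, add_zero]; exact ha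
    · exact absurd h hex
  have k3 : rho c e - e ∈ f i := hc.step i (by omega) e (by rw [hi]; exact hem)
  have k4 : rho c x - x ∈ f i := by
    have h1 := p.sub_mem hcX hxX
    refine k1 _ h1 ?_
    have h2 : rho c x ∈ X := by
      have := Submodule.add_mem _ h1 hxX
      rwa [sub_add_cancel] at this
    have h3 : g (rho c x) (rho c e - e) = 0 := hX.1 _ h2 _ (hfX k3)
    rw [H.sub_w, H.add_r, hc.iso] at h3
    rw [H.sub_w, H.add, add_comm]
    exact h3
  -- the general vector
  let s : F := g v x / g e x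
  let t : F := g v e / g x e
  have h1 : g (v + s • e + t • x) x = 0 := by
    rw [H.add, H.add, H.smul, H.smul, hxx, mul_zero, add_zero, div_mul_cancel₀ _ hex, H.two_self]
  have h2 : g (v + s • e + t • x) e = 0 := by
    rw [H.add, H.add, H.smul, H.smul, hee, mul_zero, add_zero, div_mul_cancel₀ _ hxe, H.two_self]
  have h3 : v + s • e + t • x ∈ H.perp (f i) :=
    Submodule.add_mem _ (Submodule.add_mem _ hv (Submodule.smul_mem _ _ he1)) (Submodule.smul_mem _ _ hx1)
  have h4 : rho c (v + s • e + t • x) - (v + s • e + t • x) ∈ f i := by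
    have h5 : v + s • e + t • x ∈ H.perp (f m) := by
      rw [he3, H.mem_perp_sup, H.mem_perp_span]; exact ⟨h3, h2⟩
    refine k2 _ (hc.last _ h5) ?_
    have h6 : x - rho c x ∈ f i := by
      have := Submodule.neg_mem _ k4
      rwa [neg_sub] at this
    have h7 : g (rho c (v + s • e + t • x)) x = 0 := by
      have h8 : g (rho c (v + s • e + t • x)) x = g (rho c (v + s • e + t • x)) (x - rho c x) +
          g (rho c (v + s • e + t • x)) (rho c x) := by rw [← H.add_r, sub_add_cancel]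
      have h9 : g (rho c (v + s • e + t • x)) (x - rho c x) = 0 := by
        have h10 : x - rho c x ∈ sigma c (f i) := by rw [hc.fix i (by omega)]; exact h6
        obtain ⟨z, hz, h11⟩ := (p.A.sig _ _ _).1 h10
        rw [← h11, hc.iso]
        exact h3 z hz
      rw [h8, hc.iso, h1, h9, add_zero]
    rw [H.sub_w, H.add, h7, h1, add_zero]
  have h5 : rho c v - v = (rho c (v + s • e + t • x) - (v + s • e + t • x)) -
      s • (rho c e - e) - t • (rho c x - x) := by
    rw [map_add, map_add, hc.lin, hc.lin, smul_sub, smul_sub]; abel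
  rw [h5]
  exact Submodule.sub_mem _ (Submodule.sub_mem _ h4 (Submodule.smul_mem _ _ k3)) (Submodule.smul_mem _ _ k4)

/-- an element of `Un` which fixes a second member of the panel fixes the panel -/
theorem fix_pan {i : ℕ} (hi : i < m) {X : Submodule F W} (hX : X ∈ Flags.Pan (TI g) m f (i + 1))
    (hne : X ≠ f (i + 1)) {c : ↥C} (hc : IsUn g rho sigma m f c) (hcX : sigma c X = X)
    {Y : Submodule F W} (hY : Y ∈ Flags.Pan (TI g) m f (i + 1)) : sigma c Y = Y := by
  have hfin := p.finF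
  apply eq_of_rk
  · intro z hz
    obtain ⟨v, hv, rfl⟩ := (p.A.sig _ _ _).1 hz
    have h1 : rho c v - v ∈ f i := by
      by_cases h : i + 1 < m
      · exact p.key_lt h hX hne hc hcX (hY.2.2.2 h hv)
      · exact p.key_last (by omega) hX hne hc hcX (fun x hx => hY.1 v hv x (hY.2.2.1 i rfl hx))
    have h2 := Submodule.add_mem _ (hY.2.2.1 i rfl h1) hv
    rwa [sub_add_cancel] at h2
  · exact p.A.card_eq _ _

omit [FiniteDimensional F W] in
theorem sigma_conj (x u : ↥C) (X : Submodule F W) :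
    sigma (x⁻¹ * u * x) X = X ↔ sigma u (sigma x X) = sigma x X := by
  rw [map_mul, map_mul, Equiv.Perm.mul_apply, Equiv.Perm.mul_apply, map_inv, Equiv.Perm.inv_eq_iff_eq]

/-- **`pan`** -/
theorem pan {j : ℕ} (hj1 : 1 ≤ j) (hj : j ≤ m) : ∀ u ∈ Un p.A m f, ∀ x ∈ fst C sigma m f {j},
    x ∉ fst C sigma m f ∅ → x⁻¹ * u * x ∈ fst C sigma m f ∅ →
    ∀ y ∈ fst C sigma m f {j}, y⁻¹ * u * y ∈ fst C sigma m f ∅ := by
  obtain ⟨i, rfl⟩ := Nat.exists_eq_add_of_le' hj1
  rintro u ⟨hu, hu'⟩ x hx hxB hux y hy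
  have hX := mem_pan p.act p.polSp p.hf hj hx
  have hY := mem_pan p.act p.polSp p.hf hj hy
  have hne : sigma ⟨x, hx.1⟩ (f (i + 1)) ≠ f (i + 1) := by
    intro h
    refine hxB ⟨hx.1, fun d hd _ => ?_⟩
    by_cases hdi : d = i + 1
    · subst hdi; exact h
    · exact hx.2 d hd (by simpa using hdi)
  have hc : ∀ z (hz : z ∈ C), sigma ⟨z⁻¹ * u * z, mul_mem (mul_mem (inv_mem hz) hu) hz⟩
      = sigma ((⟨z, hz⟩ : ↥C)⁻¹ * ⟨u, hu⟩ * ⟨z, hz⟩) := fun z hz => rfl
  have h1 : sigma ⟨u, hu⟩ (sigma ⟨x, hx.1⟩ (f (i + 1))) = sigma ⟨x, hx.1⟩ (f (i + 1)) := by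
    rw [← p.sigma_conj, ← hc]
    exact hux.2 (i + 1) hj (by simp)
  refine ⟨mul_mem (mul_mem (inv_mem hy.1) hu) hy.1, fun d hd _ => ?_⟩
  rw [hc y hy.1, p.sigma_conj]
  by_cases hdi : d = i + 1
  · subst hdi
    exact p.fix_pan hj hX hne hu' h1 hY
  · rw [hy.2 d hd (by simpa using hdi)]
    exact hu'.fix d hd

/-- **`clo`** -/
theorem clo {j : ℕ} (hj1 : 1 ≤ j) (hj : j ≤ m) : ∀ u ∈ Un p.A m f, ∀ x ∈ fst C sigma m f {j},
    x⁻¹ * u * x ∈ fst C sigma m f ∅ → x⁻¹ * u * x ∈ Un p.A m f := by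
  obtain ⟨i, rfl⟩ := Nat.exists_eq_add_of_le' hj1
  rintro u ⟨hu, hu'⟩ x hx hux
  have hxC : x ∈ C := hx.1
  refine ⟨hux.1, ?_⟩
  have hc : (⟨x⁻¹ * u * x, hux.1⟩ : ↥C) = (⟨x, hxC⟩ : ↥C)⁻¹ * ⟨u, hu⟩ * ⟨x, hxC⟩ := rfl
  have hfix : ∀ d ≤ m, sigma ((⟨x, hxC⟩ : ↥C)⁻¹ * ⟨u, hu⟩ * ⟨x, hxC⟩) (f d) = f d := fun d hd =>
    hux.2 d hd (by simp)
  rw [hc]
  have hX := mem_pan p.act p.polSp p.hf hj hx
  have hxu : ∀ d ≤ m, sigma ⟨u, hu⟩ (sigma ⟨x, hxC⟩ (f d)) = sigma ⟨x, hxC⟩ (f d) := fun d hd => by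
    rw [← p.sigma_conj]; exact hfix d hd
  have hxd : ∀ d ≤ m, d ≠ i + 1 → sigma ⟨x, hxC⟩ (f d) = f d := fun d hd h =>
    hx.2 d hd (by simpa using h)
  generalize (⟨x, hxC⟩ : ↥C) = x' at *
  generalize (⟨u, hu⟩ : ↥C) = u' at *
  obtain ⟨τ, μ, hμ, hτ1, hτ2⟩ := p.A.semi x'
  have e1 : ∀ v, rho x' (rho (x'⁻¹ * u' * x') v) = rho u' (rho x' v) := fun v => by
    rw [← p.A.mul, ← p.A.mul]; congr 2; group
  -- the filtration
  have key : ∀ (Y : Submodule F W) (v : W), rho u' (rho x' v) - rho x' v ∈ sigma x' Y →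
      rho (x'⁻¹ * u' * x') v - v ∈ Y := by
    intro Y v h
    rw [← p.A.mem_iff (c := x'), map_sub, e1]
    exact h
  have hne : ∀ h : sigma x' (f (i + 1)) ≠ f (i + 1), ∀ v, ((i + 1 < m ∧ v ∈ f (i + 2)) ∨ (i + 1 = m ∧ v ∈ p.H.perp (f i))) →
      rho u' v - v ∈ f i := by
    rintro h v (⟨h1, h2⟩ | ⟨h1, h2⟩)
    · exact p.key_lt h1 hX h hu' (hxu _ hj) h2
    · exact p.key_last h1 hX h hu' (hxu _ hj) h2
  have hfi : f i ≤ sigma x' (f (i + 1)) := hX.2.2.1 i rfl
  refine ⟨hfix, fun s v => ?_, fun v w => ?_, fun d hd v hv => ?_, fun v hv => ?_⟩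
  · apply (rho x').injective
    rw [e1, hτ1, hu'.lin, hτ1, e1]
  · have h1 := hτ2 (rho (x'⁻¹ * u' * x') v) (rho (x'⁻¹ * u' * x') w)
    rw [e1, e1, hu'.iso, hτ2 v w] at h1
    exact (τ.injective (mul_left_cancel₀ hμ h1)).symm
  · apply key
    have h1 : rho x' v ∈ sigma x' (f (d + 1)) := p.A.mem hv
    by_cases hb : sigma x' (f (i + 1)) = f (i + 1)
    · have h2 : ∀ d ≤ m, sigma x' (f d) = f d := fun d hd => by
        by_cases hdi : d = i + 1
        · subst hdi; exact hb
        · exact hxd d hd hdi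
      rw [h2 _ hd] at h1
      rw [h2 _ hd.le]
      exact hu'.step d hd _ h1
    by_cases h2 : d = i
    · subst h2
      rw [hxd d (by omega) (by omega)]
      refine hne hb _ ?_
      by_cases h3 : d + 1 < m
      · exact Or.inl ⟨h3, hX.2.2.2 h3 h1⟩
      · exact Or.inr ⟨by omega, fun y hy => hX.1 _ h1 y (hfi hy)⟩
    by_cases h3 : d = i + 1
    · subst h3
      rw [hxd (i + 1 + 1) hd (by omega)] at h1
      exact hfi (hne hb _ (Or.inl ⟨hd, h1⟩))
    · rw [hxd _ hd (by omega)] at h1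
      rw [hxd _ hd.le h3]
      exact hu'.step d hd _ h1
  · apply key
    have h1 : ∀ y ∈ sigma x' (f m), g (rho x' v) y = 0 := by
      intro y hy
      obtain ⟨z, hz, rfl⟩ := (p.A.sig _ _ _).1 hy
      rw [hτ2, hv z hz, map_zero, mul_zero]
    by_cases hb : sigma x' (f m) = f m
    · rw [hb] at h1 ⊢
      exact hu'.last _ h1
    · have hm' : i + 1 = m := by
        by_contra h
        exact hb (hxd m le_rfl (fun h' => h h'.symm))
      rw [← hm'] at hb h1 ⊢
      exact hfi (hne hb _ (Or.inr ⟨hm', fun y hy => h1 y (hfi hy)⟩))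

/-! ### Summary -/

section res

variable {I : Type*} {P : I → Subgroup G} {a b : I} {i j : ℕ} (hB : ∀ k, fst C sigma m f ∅ ≤ P k)
  (ha : P a = fst C sigma m f {i}) (hb : P b = fst C sigma m f {j})

include hB ha hb

theorem rk_two (hij : i + 1 < j) (hj : j ≤ m) :
    Rk (fst C sigma m f ∅) P a b 2 ∧ Rk (fst C sigma m f ∅) P b a 2 :=
  Flags.rk_two p.polSp p.act p.hf hB ha hb hij hj

theorem rk_three (hi : 1 ≤ i) (hij : i + 1 = j) (hj : j < m) :
    Rk (fst C sigma m f ∅) P a b 3 ∧ Rk (fst C sigma m f ∅) P b a 3 :=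
  Flags.rk_three p.polSp p.act p.hf hB ha hb hi hij hj

theorem rk_four (hi : 1 ≤ i) (hij : i + 1 = j) (hj : j = m) :
    Rk (fst C sigma m f ∅) P a b 4 ∧ Rk (fst C sigma m f ∅) P b a 4 :=
  Flags.rk_four p.polSp p.act p.hf hB ha hb hi hij hj

end res

theorem relIndex_lt {j : ℕ} (hj : 1 ≤ j) (hjm : j < m) :
    (fst C sigma m f ∅).relIndex (fst C sigma m f {j}) = Nat.card F + 1 := by
  rw [relIndex_fst p.polSp p.act p.hf hjm.le, p.H.card_pan_lt p.hm p.hf hj hjm]

theorem relIndex_last (hm1 : 1 ≤ m) :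
    (fst C sigma m f ∅).relIndex (fst C sigma m f {m}) = q * Nat.card F ^ (finrank F W - 2 * m) + 1 := by
  rw [relIndex_fst p.polSp p.act p.hf le_rfl, p.H.card_pan_last p.hm p.hf hm1]

theorem gen (hm1 : 1 ≤ m) {N : Subgroup G} (hN : ∀ j, 1 ≤ j → j ≤ m → fst C sigma m f {j} ≤ N) : C ≤ N :=
  le_of_panels p.polSp p.act p.hf hm1 hN

theorem finrank_eq : finrank F W = 2 * m ∨ finrank F W = 2 * m + 1 := p.H.finrank_eq p.hm

end Pol

end Cfsg.Agent.ParSys.Polar.Unip

end

section


/-!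
# The C-side of NO-1' (β): `C = N(R)` acts on the hermitian space `W = Q / R` as in `Polar.Unip.Pol`

`rho` : the action of `N(R)` on `W`; `herm : Herm |k| sg g`; `siegel` : all the Siegel transformations;
`exists_pol` : `Pol` with a flag which starts with `F e₀`.
-/

set_option autoImplicit false
set_option linter.unusedVariables false
set_option linter.unusedSectionVars false

open Subgroup Module
open Cfsg.Agent.Omega.NOne.SU Cfsg.Agent.ParSys.Polar.Flags Cfsg.Agent.ParSys.Polar.Hermit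
open Cfsg.Agent.ParSys.Polar.Unip

namespace Cfsg.Agent.Omega.NO1U.CSide

variable {G : Type*} [Group G] {k F : Type*} [Field k] [Field F] [Algebra k F] {T : Quad k F}
  {S : Sylow 2 G} {V R Q Q' : Subgroup G} {v : k → F → k → G} {p p' : G → F}
  {Φ : Type*} [AddCommGroup Φ] [Module F Φ] {φ χ : G → Φ} {hm : Φ → Φ → F}
  {W : Type*} [AddCommGroup W] [Module F W] {w : G → W} {g : W → W → F} {f₀ : W} {ι : Φ →ₗ[F] W}

/-- the involution as a ring homomorphism -/
def sgR (T : Quad k F) : F →+* F := (T.sg : F ≃ₐ[k] F).toAlgHom.toRingHom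

theorem sgR_apply (x : F) : sgR T x = T.sg x := rfl

section act

variable (h : GIn T S V R Q Q' v p p') (o : Out T V R Q Q' v p φ χ hm w g f₀ ι)

/-- a section of `w` -/
noncomputable def sec (o : Out T V R Q Q' v p φ χ hm w g f₀ ι) (m : W) : G := (o.w_surj m).choose

theorem sec_mem (m : W) : sec o m ∈ Q := (o.w_surj m).choose_spec.1

theorem w_sec (m : W) : w (sec o m) = m := (o.w_surj m).choose_spec.2

include h in
theorem w_cj {c x : G} (hc : c ∈ normalizer (R : Set G)) (hx : x ∈ Q) :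
    w (c * sec o (w x) * c⁻¹) = w (c * x * c⁻¹) :=
  OutL.w_conj_congr h o hc (sec_mem o _) hx (w_sec o _)

/-- **the action of `N(R)` on `W`** -/
noncomputable def rho (h : GIn T S V R Q Q' v p p') (o : Out T V R Q Q' v p φ χ hm w g f₀ ι)
    (c : ↥(normalizer (R : Set G))) : W ≃+ W where
  toFun m := w (c * sec o m * (c : G)⁻¹)
  invFun m := w ((c : G)⁻¹ * sec o m * (c : G)⁻¹⁻¹)
  left_inv m := by
    show w ((c : G)⁻¹ * sec o (w (c * sec o m * (c : G)⁻¹)) * (c : G)⁻¹⁻¹) = m
    rw [w_cj h o (inv_mem c.2) (h.nor _ c.2 _ (sec_mem o m))]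
    have e : (c : G)⁻¹ * (c * sec o m * (c : G)⁻¹) * (c : G)⁻¹⁻¹ = sec o m := by group
    rw [e, w_sec o]
  right_inv m := by
    show w ((c : G) * sec o (w ((c : G)⁻¹ * sec o m * (c : G)⁻¹⁻¹)) * (c : G)⁻¹) = m
    rw [w_cj h o c.2 (h.nor _ (inv_mem c.2) _ (sec_mem o m))]
    have e : (c : G) * ((c : G)⁻¹ * sec o m * (c : G)⁻¹⁻¹) * (c : G)⁻¹ = sec o m := by group
    rw [e, w_sec o]
  map_add' m m' := by
    have h1 : m + m' = w (sec o m * sec o m') := by rw [o.w_mul _ (sec_mem o m) _ (sec_mem o m'), w_sec o, w_sec o]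
    show w ((c : G) * sec o (m + m') * (c : G)⁻¹) = _
    rw [h1, w_cj h o c.2 (mul_mem (sec_mem o m) (sec_mem o m'))]
    have e : (c : G) * (sec o m * sec o m') * (c : G)⁻¹ =
        ((c : G) * sec o m * (c : G)⁻¹) * ((c : G) * sec o m' * (c : G)⁻¹) := by group
    rw [e, o.w_mul _ (h.nor _ c.2 _ (sec_mem o m)) _ (h.nor _ c.2 _ (sec_mem o m'))]

theorem rho_w (c : ↥(normalizer (R : Set G))) {x : G} (hx : x ∈ Q) :
    rho h o c (w x) = w (c * x * (c : G)⁻¹) := w_cj h o c.2 hx

theorem rho_mul (a b : ↥(normalizer (R : Set G))) (m : W) : rho h o (a * b) m = rho h o a (rho h o b m) := by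
  obtain ⟨x, hx, rfl⟩ := o.w_surj m
  rw [rho_w h o _ hx, rho_w h o _ hx, rho_w h o _ (h.nor _ b.2 _ hx)]
  congr 1
  rw [Subgroup.coe_mul]; group

theorem rho_one (m : W) : rho h o 1 m = m := by
  have h1 := rho_mul h o 1 1 m
  rw [mul_one] at h1
  exact (rho h o 1).injective h1.symm

/-- `Q` acts trivially -/
theorem rho_Q {x : G} (hx : x ∈ Q) (hxR : x ∈ normalizer (R : Set G)) (m : W) : rho h o ⟨x, hxR⟩ m = m := by
  obtain ⟨y, hy, rfl⟩ := o.w_surj m
  rw [rho_w h o _ hy]
  show w (x * y * x⁻¹) = w y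
  rw [o.w_mul _ (mul_mem hx hy) _ (inv_mem hx), o.w_mul _ hx _ hy, OutL.w_inv h o hx]
  abel

theorem Q_le (h : GIn T S V R Q Q' v p p') : Q ≤ normalizer (R : Set G) := h.Q_le_CR.trans h.CR_le_NR

/-- **the hermitian space** -/
theorem herm (h : GIn T S V R Q Q' v p p') (o : Out T V R Q Q' v p φ χ hm w g f₀ ι) :
    Herm (Nat.card k) (sgR T) g := by
  have h2 : (2 : k) = 0 := h.h2
  have h2F : (2 : F) = 0 := T.twoF h2
  have hk := T.fink
  have hF := T.finF
  have sq_inj : ∀ x : F, ∀ y : F, x * x = y * y → x = y := by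
    intro x y hxy
    have : (x - y) * (x - y) = 0 := by linear_combination hxy - (x * y - y * y) * h2F
    exact sub_eq_zero.1 (mul_self_eq_zero.1 this)
  exact
    { two := h2F
      pos := lt_of_lt_of_le (by norm_num) T.four
      card := T.card
      sg_sg := T.sg_sg
      tr_surj := by
        intro b hb
        obtain ⟨a, rfl⟩ := T.fix b hb
        obtain ⟨x, hx⟩ := T.exists_tr_ne h2
        refine ⟨(a / T.tr x) • x, ?_⟩
        rw [sgR_apply, ← T.tr_eq, map_smul, smul_eq_mul, div_mul_cancel₀ _ hx]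
      nm_surj := by
        intro b hb
        obtain ⟨y, hy⟩ := T.exists_sq h2 b
        refine ⟨y, ?_⟩
        have h1 : T.sg y = y := by
          apply sq_inj
          rw [← map_mul, ← pow_two, hy]; exact hb
        rw [sgR_apply, h1, ← pow_two, hy]
      tr_ker := by
        refine (Nat.card_congr (Equiv.ofBijective (fun a : k => (⟨algebraMap k F a, ?_⟩ :
          {a : F | a + sgR T a = 0})) ⟨?_, ?_⟩)).symm
        · show algebraMap k F a + T.sg (algebraMap k F a) = 0
          rw [T.sg_alg]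
          linear_combination algebraMap k F a * h2F
        · intro a b hab
          exact (algebraMap k F).injective (congrArg Subtype.val hab)
        · rintro ⟨x, hx⟩
          have h1 : T.sg x = x := by
            have h1 : x + T.sg x = 0 := hx
            linear_combination h1 - x * h2F
          obtain ⟨a, rfl⟩ := T.fix x h1
          exact ⟨a, rfl⟩
      add := o.g_add
      smul := o.g_smul
      sym := o.g_sym
      nd := by
        intro x hx
        obtain ⟨a, u, b, rfl⟩ := o.span x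
        have g0 : ∀ m, g 0 m = 0 := OutL.g_zero h o
        have fe : g f₀ (w (v 0 1 0)) = 1 := by rw [o.g_sym, o.g_ef, map_one]
        have ιe : ∀ u, g (ι u) (w (v 0 1 0)) = 0 := fun u => by rw [o.g_sym, o.g_eι, map_zero]
        have ιf : ∀ u, g (ι u) f₀ = 0 := fun u => by rw [o.g_sym, o.g_fι, map_zero]
        have h1 := hx (w (v 0 1 0))
        rw [o.g_add, o.g_add, o.g_smul, o.g_smul, o.g_ee, ιe, fe, mul_zero, zero_add, zero_add, mul_one] at h1
        have h3 := hx f₀
        rw [o.g_add, o.g_add, o.g_smul, o.g_smul, o.g_ef, ιf, o.g_ff, mul_zero, add_zero, add_zero, mul_one] at h3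
        have h4 : u = 0 := o.hm_nondeg u fun u' => by
          have h5 := hx (ι u')
          rw [h1, h3, zero_smul, zero_smul, zero_add, add_zero, o.g_ιι] at h5
          exact h5
        rw [h1, h3, h4, map_zero, zero_smul, zero_smul, add_zero, add_zero] }

/-! ### The Siegel transformations -/

/-- `v 0 0 d` acts as a transvection -/
theorem transv (h : GIn T S V R Q Q' v p p') (o : Out T V R Q Q' v p φ χ hm w g f₀ ι) (d : k) :
    ∃ c : ↥(normalizer (R : Set G)), ∀ m, rho h o c m =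
      m + (algebraMap k F d * g m (w (v 0 1 0))) • w (v 0 1 0) := by
  have hc : v 0 0 d ∈ normalizer (R : Set G) := h.CR_le_NR (h.CV_le_CR (h.V_le_CV (h.v_mem 0 0 d)))
  refine ⟨⟨_, hc⟩, fun m => ?_⟩
  obtain ⟨y, hy, rfl⟩ := o.w_surj m
  rw [rho_w h o _ hy]
  show w (v 0 0 d * y * (v 0 0 d)⁻¹) = _
  have h1 := h.act y⁻¹ (inv_mem hy) 0 0 d
  rw [h.p_inv hy, inv_inv] at h1
  have h2 : v 0 0 d * y * (v 0 0 d)⁻¹ = y * (y⁻¹ * v 0 0 d * y * (v 0 0 d)⁻¹) := by group
  have h3 : y⁻¹ * v 0 0 d * y * (v 0 0 d)⁻¹ = v (T.nm (p y) * d) (p y * algebraMap k F d) 0 := by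
    rw [h1, h.v_inv, ← h.v_add]
    have := h.h2
    simp only [mul_zero, map_zero, zero_add, add_zero]
    congr 1
    linear_combination d * this
  rw [h2, h3, o.w_mul _ hy _ (h.E_le _ _), OutL.w_E h o, o.p_eq y hy, mul_comm (algebraMap k F d)]

/-- the Siegel transformations with centre `e₀` -/
theorem siegel₀ (h : GIn T S V R Q Q' v p p') (f : Fld T V R Q Q' v p φ χ)
    (o : Out T V R Q Q' v p φ χ hm w g f₀ ι) (z : W) (a : F) (hz : g z (w (v 0 1 0)) = 0)
    (ha : a + T.sg a = g z z) : ∃ c : ↥(normalizer (R : Set G)), ∀ m, rho h o c m =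
      m + g m (w (v 0 1 0)) • z + (g m z + a * g m (w (v 0 1 0))) • w (v 0 1 0) := by
  have H := herm h o
  have h2F : (2 : F) = 0 := H.two
  have fe : g f₀ (w (v 0 1 0)) = 1 := by rw [o.g_sym, o.g_ef, map_one]
  have ιe : ∀ u, g (ι u) (w (v 0 1 0)) = 0 := fun u => by rw [o.g_sym, o.g_eι, map_zero]
  obtain ⟨b, x, b', rfl⟩ := o.span z
  have h1 := hz
  rw [o.g_add, o.g_add, o.g_smul, o.g_smul, o.g_ee, ιe, fe, mul_zero, zero_add, zero_add, mul_one] at h1
  subst h1
  rw [zero_smul, add_zero] at ha hz ⊢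
  generalize hE : w (v 0 1 0) = E at *
  have gee : g E E = 0 := by rw [← hE]; exact o.g_ee
  have geι : ∀ u, g E (ι u) = 0 := fun u => by rw [← hE]; exact o.g_eι u
  have e1 : g (b • E + ι x) (b • E + ι x) = hm x x := by
    rw [H.add, H.add_r, H.add_r, H.smul, H.smul_r, H.smul, H.smul_r, gee, geι, ιe, o.g_ιι]; ring
  rw [e1] at ha
  obtain ⟨n, hn, hnV, hχ⟩ := f.χ_surj x
  obtain ⟨r, hr, hact⟩ := o.χ_act n hn hnV
  rw [hχ] at hr hact
  have hnR : n ∈ normalizer (R : Set G) := h.CR_le_NR (h.CV_le_CR hnV)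
  -- the difference of the parameters lies in `k`
  obtain ⟨d, hd⟩ := T.fix (a + b + T.sg b + r) (by
    rw [map_add, map_add, map_add, T.sg_sg]
    linear_combination ha - hr + (T.sg r - a) * h2F)
  obtain ⟨c, hc⟩ := transv h o d
  refine ⟨c * ⟨n, hnR⟩, fun m => ?_⟩
  rw [rho_mul, hc]
  obtain ⟨y, hy, rfl⟩ := o.w_surj m
  rw [rho_w h o _ hy]
  rw [hE] at hact hc
  have e2 : w ((⟨n, hnR⟩ : ↥(normalizer (R : Set G))) * y * ((⟨n, hnR⟩ : ↥(normalizer (R : Set G))) : G)⁻¹)
      = w y + g (w y) E • ι x + (g (w y) (ι x) + r * g (w y) E) • E := hact y hy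
  rw [hE, e2]
  have e3 : g (w y + g (w y) E • ι x + (g (w y) (ι x) + r * g (w y) E) • E) E = g (w y) E := by
    rw [H.add, H.add, H.smul, H.smul, ιe, gee, mul_zero, mul_zero, add_zero, add_zero]
  rw [e3, hd, H.add_r, H.smul_r, smul_add, smul_smul, sgR_apply]
  have e4 : (g (w y) (ι x) + r * g (w y) E) • E + ((a + b + T.sg b + r) * g (w y) E) • E
      = (g (w y) E * b) • E + (T.sg b * g (w y) E + g (w y) (ι x) + a * g (w y) E) • E := by
    rw [← add_smul, ← add_smul]
    congr 1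
    linear_combination (r * g (w y) E) * h2F
  rw [add_assoc (w y + g (w y) E • ι x), e4]
  abel

/-- **all the Siegel transformations** -/
theorem siegel (h : GIn T S V R Q Q' v p p') (f : Fld T V R Q Q' v p φ χ)
    (o : Out T V R Q Q' v p φ χ hm w g f₀ ι) (y z : W) (a : F) (hy : g y y = 0) (hz : g z y = 0)
    (ha : a + sgR T a = g z z) : ∃ c : ↥(normalizer (R : Set G)), ∀ m, rho h o c m =
      m + g m y • z + (g m z + a * g m y) • y := by
  have H := herm h o
  have h2F : (2 : F) = 0 := H.two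
  by_cases hy0 : y = 0
  · subst hy0
    refine ⟨1, fun m => ?_⟩
    rw [rho_one, H.zero_r, zero_smul, smul_zero, add_zero, add_zero]
  obtain ⟨c, hcR, hlin, hiso, s, hs⟩ := o.tran y hy0 hy
  have hcN := h.CR_le_NR hcR
  set c' : ↥(normalizer (R : Set G)) := ⟨c, hcN⟩ with hc'
  have r1 : ∀ x (hx : x ∈ Q), rho h o c' (w x) = w (c * x * c⁻¹) := fun x hx => rho_w h o c' hx
  have lin : ∀ (t : F) m, rho h o c' (t • m) = t • rho h o c' m := by
    intro t m
    obtain ⟨x, hx, rfl⟩ := o.w_surj m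
    obtain ⟨x', hx', hxx⟩ := o.w_surj (t • w x)
    rw [← hxx, r1 x' hx', r1 x hx]
    exact hlin t x hx x' hx' hxx
  have iso : ∀ m m', g (rho h o c' m) (rho h o c' m') = g m m' := by
    intro m m'
    obtain ⟨x, hx, rfl⟩ := o.w_surj m
    obtain ⟨x', hx', rfl⟩ := o.w_surj m'
    rw [r1 x hx, r1 x' hx']
    exact hiso x hx x' hx'
  have hce : rho h o c' (w (v 0 1 0)) = s • y := by
    rw [r1 _ (h.E_le 0 1)]; exact hs
  have hs0 : s ≠ 0 := by
    rintro rfl
    rw [zero_smul, ← map_zero (rho h o c')] at hce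
    exact OutL.e₀_ne h o ((rho h o c').injective hce)
  have hsg0 : T.sg s ≠ 0 := fun h' => hs0 (by simpa using h')
  have inv1 : ∀ m, rho h o c'⁻¹ (rho h o c' m) = m := fun m => by
    rw [← rho_mul, inv_mul_cancel, rho_one]
  have inv2 : ∀ m, rho h o c' (rho h o c'⁻¹ m) = m := fun m => by
    rw [← rho_mul, mul_inv_cancel, rho_one]
  have iso' : ∀ m m', g (rho h o c'⁻¹ m) m' = g m (rho h o c' m') := fun m m' => by
    rw [← iso, inv2]
  obtain ⟨x, hx⟩ := siegel₀ h f o ((T.sg s)⁻¹ • rho h o c'⁻¹ z) (a / (s * T.sg s))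
    (by rw [H.smul, iso', hce, H.smul_r, hz, mul_zero, mul_zero])
    (by
      rw [H.smul, H.smul_r, iso', inv2, ← ha, sgR_apply, sgR_apply, map_div₀, map_mul, map_inv₀, T.sg_sg]
      field_simp)
  refine ⟨c' * x * c'⁻¹, fun m => ?_⟩
  rw [rho_mul, rho_mul, hx, map_add, map_add, inv2, lin, lin, lin, inv2, hce, iso', hce, H.smul_r, H.smul_r,
    iso', inv2, smul_smul, smul_smul, sgR_apply, sgR_apply, map_inv₀, T.sg_sg]
  congr 2
  · congr 1; field_simp
  · field_simp

/-- the hypothesis: `N(R)` acts by semilinear similitudes -/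
def Semi (R Q : Subgroup G) (w : G → W) (g : W → W → F) : Prop :=
  ∀ c ∈ normalizer (R : Set G), ∃ (τ : F →+* F) (μ : F), μ ≠ 0 ∧
    (∀ (s : F), ∀ x ∈ Q, ∀ y ∈ Q, w y = s • w x → w (c * y * c⁻¹) = τ s • w (c * x * c⁻¹)) ∧
    (∀ x ∈ Q, ∀ y ∈ Q, g (w (c * x * c⁻¹)) (w (c * y * c⁻¹)) = μ * τ (g (w x) (w y)))

theorem rho_semi (hs : Semi R Q w g) (c : ↥(normalizer (R : Set G))) : ∃ (τ : F →+* F) (μ : F), μ ≠ 0 ∧
    (∀ (s : F) m, rho h o c (s • m) = τ s • rho h o c m) ∧
    ∀ m m', g (rho h o c m) (rho h o c m') = μ * τ (g m m') := by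
  obtain ⟨τ, μ, hμ, h1, h2⟩ := hs c c.2
  refine ⟨τ, μ, hμ, fun s m => ?_, fun m m' => ?_⟩
  · obtain ⟨x, hx, rfl⟩ := o.w_surj m
    obtain ⟨x', hx', hxx⟩ := o.w_surj (s • w x)
    rw [← hxx, rho_w h o c hx', rho_w h o c hx]
    exact h1 s x hx x' hx' hxx
  · obtain ⟨x, hx, rfl⟩ := o.w_surj m
    obtain ⟨x', hx', rfl⟩ := o.w_surj m'
    rw [rho_w h o c hx, rho_w h o c hx']
    exact h2 x hx x' hx'

/-- **`N(R)` acts on the hermitian space `Q / R`, with a flag which starts with `F e₀`** -/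
theorem exists_pol [Finite G] (h : GIn T S V R Q Q' v p p') (f : Fld T V R Q Q' v p φ χ)
    (o : Out T V R Q Q' v p φ χ hm w g f₀ ι) (hs : Semi R Q w g) :
    Module.Finite F W ∧ ∃ (sigma : ↥(normalizer (R : Set G)) →* Equiv.Perm (Submodule F W)) (m : ℕ)
      (fl : ℕ → Submodule F W), Pol (normalizer (R : Set G)) (Nat.card k) (sgR T) g (rho h o) sigma m fl ∧
        fl 1 = F ∙ w (v 0 1 0) ∧ 1 ≤ m := by
  have hF := T.finF
  have hW : Finite W := Finite.of_surjective w (fun m => by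
    obtain ⟨x, -, hx⟩ := o.w_surj m; exact ⟨x, hx⟩)
  have hfin : Module.Finite F W := Module.Finite.of_finite
  refine ⟨hfin, ?_⟩
  have H := herm h o
  obtain ⟨sigma, hsig⟩ := exists_sigma (rho_mul h o) (fun c => by
    obtain ⟨τ, μ, -, h1, -⟩ := rho_semi h o hs c
    exact ⟨τ, h1⟩)
  obtain ⟨m, hm⟩ := H.exists_witt
  obtain ⟨fl, hfl, h1, hm1⟩ := H.exists_fl_of hm (OutL.e₀_ne h o) o.g_ee
  exact ⟨sigma, m, fl, ⟨H, ⟨rho_mul h o, hsig, rho_semi h o hs, siegel h f o⟩, hm, hfl⟩, h1, hm1⟩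

end act

end Cfsg.Agent.Omega.NO1U.CSide

end
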