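import Mathlib
import Cfsg.Agent.Mrg.ParSys.Polar.Flags

section


/-!
# The polar space of a nondegenerate symplectic form over a finite field of characteristic 2

`Symp g` : `g` is a nondegenerate alternating form over a finite field of characteristic 2.
`perp`, `finrank_perp`, `perp_perp`, `TI` (totally isotropic), `Witt g m` (`m` is the Witt index);
`polSp : PolSp (TI g) m`; `finrank_eq : n = 2m`.
-/

set_option autoImplicit false
set_option linter.unusedSectionVars false

namespace Cfsg.Agent.ParSys.Polar.Sympl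

open Module Cfsg.Agent.ParSys.Polar.Flags

variable {F W : Type*} [Field F] [Finite F] [AddCommGroup W] [Module F W]

/-- a nondegenerate symplectic form, characteristic 2 -/
structure Symp (g : W → W → F) : Prop where
  two : (2 : F) = 0
  self : ∀ x, g x x = 0
  add : ∀ x y z, g (x + y) z = g x z + g y z
  smul : ∀ (s : F) x y, g (s • x) y = s * g x y
  sym : ∀ x y, g y x = g x y
  nd : ∀ x, (∀ y, g x y = 0) → x = 0

/-- totally isotropic -/
def TI (g : W → W → F) (X : Submodule F W) : Prop := ∀ x ∈ X, ∀ y ∈ X, g x y = 0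

/-- `m` is the Witt index -/
def Witt (g : W → W → F) (m : ℕ) : Prop :=
  (∃ X : Submodule F W, TI g X ∧ finrank F X = m) ∧ ∀ X : Submodule F W, TI g X → finrank F X ≤ m

namespace Symp

variable {g : W → W → F} (H : Symp g)

include H

theorem two_self (a : F) : a + a = 0 := by linear_combination a * H.two

theorem two_w (v : W) : v + v = 0 := by rw [← two_smul F, H.two, zero_smul]

theorem neg_w (v : W) : -v = v := neg_eq_of_add_eq_zero_left (H.two_w v)

theorem sub_w (v u : W) : v - u = v + u := by rw [sub_eq_add_neg, H.neg_w]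

theorem eq_of_add {a b : F} (h : a + b = 0) : a = b := by linear_combination h - b * H.two

theorem add_r (x y z : W) : g x (y + z) = g x y + g x z := by
  rw [H.sym (y + z) x, H.add, H.sym x y, H.sym x z]

theorem smul_r (s : F) (x y : W) : g x (s • y) = s * g x y := by
  rw [H.sym, H.smul, ← H.sym]

theorem zero_l (y : W) : g 0 y = 0 := by
  have := H.smul 0 0 y
  rwa [zero_smul, zero_mul] at this

theorem zero_r (y : W) : g y 0 = 0 := by rw [H.sym, H.zero_l]

theorem zero_comm {x y : W} (h : g x y = 0) : g y x = 0 := by rw [H.sym, h]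

theorem ne_comm {x y : W} (h : g x y ≠ 0) : g y x ≠ 0 := fun h' => h (H.zero_comm h')

/-- the orthogonal space -/
def perp (X : Submodule F W) : Submodule F W where
  carrier := {y | ∀ x ∈ X, g y x = 0}
  zero_mem' := fun x _ => H.zero_l x
  add_mem' := fun {a b} ha hb x hx => by rw [H.add, ha x hx, hb x hx, add_zero]
  smul_mem' := fun s a ha x hx => by rw [H.smul, ha x hx, mul_zero]

theorem mem_perp {X : Submodule F W} {y : W} : y ∈ H.perp X ↔ ∀ x ∈ X, g y x = 0 := Iff.rfl

theorem mem_perp' {X : Submodule F W} {y : W} : y ∈ H.perp X ↔ ∀ x ∈ X, g x y = 0 :=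
  ⟨fun h x hx => H.zero_comm (h x hx), fun h x hx => H.zero_comm (h x hx)⟩

theorem perp_anti {X Y : Submodule F W} (h : X ≤ Y) : H.perp Y ≤ H.perp X := fun _ hy x hx => hy x (h hx)

theorem le_perp_comm {X Y : Submodule F W} (h : X ≤ H.perp Y) : Y ≤ H.perp X :=
  fun _ hy _ hx => H.zero_comm (h hx _ hy)

theorem TI_iff {X : Submodule F W} : TI g X ↔ X ≤ H.perp X := Iff.rfl

theorem mem_perp_span {v y : W} : y ∈ H.perp (F ∙ v) ↔ g y v = 0 := by
  refine ⟨fun h => h v (Submodule.mem_span_singleton_self v), fun h x hx => ?_⟩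
  obtain ⟨s, rfl⟩ := Submodule.mem_span_singleton.1 hx
  rw [H.smul_r, h, mul_zero]

theorem mem_perp_sup {X Y : Submodule F W} {y : W} : y ∈ H.perp (X ⊔ Y) ↔ y ∈ H.perp X ∧ y ∈ H.perp Y := by
  refine ⟨fun h => ⟨H.perp_anti le_sup_left h, H.perp_anti le_sup_right h⟩, fun h x hx => ?_⟩
  obtain ⟨a, ha, b, hb, rfl⟩ := Submodule.mem_sup.1 hx
  rw [H.add_r, h.1 a ha, h.2 b hb, add_zero]

theorem TI_sup {X Y : Submodule F W} (hX : TI g X) (hY : TI g Y) (h : Y ≤ H.perp X) : TI g (X ⊔ Y) := by
  intro x hx y hy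
  obtain ⟨a, ha, b, hb, rfl⟩ := Submodule.mem_sup.1 hx
  obtain ⟨a', ha', b', hb', rfl⟩ := Submodule.mem_sup.1 hy
  rw [H.add, H.add_r, H.add_r, hX a ha a' ha', hY b hb b' hb', h hb a' ha', H.zero_comm (h hb' a ha)]
  simp

theorem TI_span (v : W) : TI g (F ∙ v) := by
  have hv := H.self v
  intro x hx y hy
  obtain ⟨s, rfl⟩ := Submodule.mem_span_singleton.1 hx
  obtain ⟨t, rfl⟩ := Submodule.mem_span_singleton.1 hy
  rw [H.smul, H.smul_r, hv, mul_zero, mul_zero]

theorem TI_sup_span {X : Submodule F W} (hX : TI g X) {v : W} (h : v ∈ H.perp X) :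
    TI g (X ⊔ (F ∙ v)) :=
  H.TI_sup hX (H.TI_span v) (by rwa [Submodule.span_singleton_le_iff_mem])

omit H in
theorem _root_.Cfsg.Agent.ParSys.Polar.Sympl.TI.mono {X Y : Submodule F W} (h : X ≤ Y) (hY : TI g Y) : TI g X :=
  fun x hx y hy => hY x (h hx) y (h hy)

/-- the linear form `g · x` -/
def gl (x : W) : W →ₗ[F] F where
  toFun y := g y x
  map_add' a b := H.add a b x
  map_smul' s a := by rw [H.smul]; rfl

variable [FiniteDimensional F W]

theorem finrank_perp (X : Submodule F W) : finrank F (H.perp X) + finrank F X = finrank F W := by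
  apply le_antisymm
  · let ψ : X → Dual F (W ⧸ H.perp X) := fun x =>
      (H.perp X).liftQ (H.gl (x : W)) (fun y hy => hy (x : W) x.2)
    have hψ : Function.Injective ψ := by
      intro x x' h
      have h1 : ∀ y, g y (x : W) = g y (x' : W) := fun y => by
        have := LinearMap.congr_fun h (Submodule.Quotient.mk y)
        simpa [ψ, Submodule.liftQ_apply, gl] using this
      have h2 : (x : W) - x' = 0 := H.nd _ fun y => by
        apply H.zero_comm
        rw [H.sub_w, H.add_r, h1 y, H.two_self]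
      exact Subtype.ext (sub_eq_zero.1 h2)
    have : Finite (Dual F (W ⧸ H.perp X)) := Module.finite_of_finite F
    have h1 := Nat.card_le_card_of_injective ψ hψ
    rw [Module.natCard_eq_pow_finrank (K := F) (V := X),
      Module.natCard_eq_pow_finrank (K := F) (V := Dual F (W ⧸ H.perp X)), Subspace.dual_finrank_eq] at h1
    have h2 := (Nat.pow_le_pow_iff_right (Finite.one_lt_card (α := F))).1 h1
    have h3 := Submodule.finrank_quotient_add_finrank (H.perp X)
    omega
  · let b := Module.finBasis F X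
    let φ : W →ₗ[F] (Fin (finrank F X) → F) := LinearMap.pi fun i => H.gl (b i : W)
    have hk : LinearMap.ker φ = H.perp X := by
      ext y
      rw [LinearMap.mem_ker]
      constructor
      · intro h x hx
        have h1 : ∀ i, g y (b i : W) = 0 := fun i => congrFun h i
        have h2 : (⟨x, hx⟩ : X) ∈ Submodule.span F (Set.range b) := by rw [b.span_eq]; trivial
        have h3 : ∀ z : X, z ∈ Submodule.span F (Set.range b) → g y (z : W) = 0 := by
          intro z hz
          induction hz using Submodule.span_induction with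
          | mem z hz => obtain ⟨i, rfl⟩ := hz; exact h1 i
          | zero => exact H.zero_r y
          | add z z' _ _ h1 h2 => rw [Submodule.coe_add, H.add_r, h1, h2, add_zero]
          | smul s z _ h1 => rw [Submodule.coe_smul, H.smul_r, h1, mul_zero]
        exact h3 _ h2
      · intro h
        funext i
        exact h _ (b i).2
    have h1 := LinearMap.finrank_range_add_finrank_ker φ
    rw [hk] at h1
    have h2 := Submodule.finrank_le (LinearMap.range φ)
    rw [Module.finrank_fin_fun] at h2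
    omega

theorem perp_perp (X : Submodule F W) : H.perp (H.perp X) = X := by
  have h1 := H.finrank_perp X
  have h2 := H.finrank_perp (H.perp X)
  exact (eq_of_rk (H.le_perp_comm le_rfl) (by omega)).symm

theorem exists_ne {X : Submodule F W} {x : W} (hx : x ∉ X) : ∃ z ∈ H.perp X, g z x ≠ 0 := by
  by_contra hcon
  push Not at hcon
  exact hx (by rw [← H.perp_perp X]; exact fun z hz => H.zero_comm (hcon z hz))

/-- the dimension inequality -/
theorem dl {X Y : Submodule F W} (h : Y ≤ H.perp (X ⊓ Y)) :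
    finrank F Y + finrank F ↥(X ⊓ Y) ≤ finrank F ↥(H.perp X ⊓ Y) + finrank F X := by
  have h1 : H.perp X ⊔ Y ≤ H.perp (X ⊓ Y) := sup_le (H.perp_anti inf_le_left) h
  have h2 := Submodule.finrank_mono h1
  have h3 := Submodule.finrank_sup_add_finrank_inf_eq (H.perp X) Y
  have h4 := H.finrank_perp X
  have h5 := H.finrank_perp (X ⊓ Y)
  omega

theorem dl' {X Y : Submodule F W} (h : TI g Y) :
    finrank F Y + finrank F ↥(X ⊓ Y) ≤ finrank F ↥(H.perp X ⊓ Y) + finrank F X :=
  H.dl (fun _ hy x hx => h _ hy x hx.2)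

theorem TI_bot : TI g (⊥ : Submodule F W) := fun x hx y _ => by
  rw [(Submodule.mem_bot F).1 hx]; exact H.zero_l y

theorem exists_witt : ∃ m, Witt g m := by
  classical
  have hb : ∀ X : Submodule F W, TI g X → finrank F X ≤ finrank F W := fun X _ => Submodule.finrank_le X
  let p : ℕ → Prop := fun k => ∃ X : Submodule F W, TI g X ∧ finrank F X = k
  exact ⟨Nat.findGreatest p (finrank F W),
    Nat.findGreatest_spec (P := p) (hb ⊥ H.TI_bot) ⟨⊥, H.TI_bot, rfl⟩,
    fun X hX => Nat.le_findGreatest (hb X hX) ⟨X, hX, rfl⟩⟩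

/-! ### The polar space -/

variable {m : ℕ}

/-- in a maximal totally isotropic subspace `M` there are vectors orthogonal to `Z` outside `X` -/
theorem exists_mem {X Z M : Submodule F W} (hM : TI g M) (hXZ : X ≤ Z ⊓ M) (h : finrank F Z < finrank F M ∨
    (finrank F Z ≤ finrank F M ∧ finrank F X < finrank F ↥(Z ⊓ M)) ∨
    finrank F Z + finrank F X < finrank F M + finrank F ↥(Z ⊓ M)) : ∃ t ∈ H.perp Z ⊓ M, t ∉ X := by
  by_contra hcon
  push Not at hcon
  have h1 : H.perp Z ⊓ M ≤ X := hcon
  have h2 := Submodule.finrank_mono h1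
  have h3 := H.dl' (X := Z) hM
  have h4 := Submodule.finrank_mono hXZ
  omega

theorem ext_one (hm : Witt g m) {X : Submodule F W} (hX : TI g X) (h : finrank F X < m) :
    ∃ Y, TI g Y ∧ X ≤ Y ∧ finrank F Y = finrank F X + 1 := by
  obtain ⟨⟨M, hM, rfl⟩, -⟩ := hm
  have h3 := H.dl' (X := X) hM
  obtain ⟨t, ⟨ht1, ht2⟩, ht3⟩ : ∃ t ∈ H.perp X ⊓ M, t ∉ X := by
    by_contra hcon
    push Not at hcon
    have h1 : H.perp X ⊓ M ≤ X ⊓ M := le_inf hcon inf_le_right
    have h2 := Submodule.finrank_mono h1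
    omega
  exact ⟨X ⊔ (F ∙ t), H.TI_sup_span hX ht1, le_sup_left,
    Submodule.finrank_sup_span_singleton ht3⟩

theorem exists_max (hm : Witt g m) {X : Submodule F W} (hX : TI g X) :
    ∃ Y, TI g Y ∧ X ≤ Y ∧ finrank F Y = m := by
  have key : ∀ k, ∀ X : Submodule F W, TI g X → finrank F X + k = m → ∃ Y, TI g Y ∧ X ≤ Y ∧ finrank F Y = m := by
    intro k
    induction k with
    | zero => intro X hX h; exact ⟨X, hX, le_rfl, h⟩
    | succ k ih =>
      intro X hX h
      obtain ⟨Y, hY, h1, h2⟩ := H.ext_one hm hX (by omega)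
      obtain ⟨Z, hZ, h3, h4⟩ := ih Y hY (by omega)
      exact ⟨Z, hZ, h1.trans h3, h4⟩
  exact key (m - finrank F X) X hX (by have := hm.2 X hX; omega)

/-- the subspace `X^⊥ ∩ Y` in the situation of `ex` -/
theorem finrank_L (hm : Witt g m) {X Y : Submodule F W} (hX : TI g X) (hY : TI g Y)
    (h1 : finrank F X + 1 = m) (h2 : finrank F Y = m) (h3 : ¬ X ≤ Y) (h4 : finrank F ↥(X ⊓ Y) + 2 = m) :
    finrank F ↥(H.perp X ⊓ Y) + 1 = m ∧ finrank F ↥(X ⊔ (H.perp X ⊓ Y)) = m := by
  have h5 := H.dl' (X := X) hY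
  have h6 : finrank F ↥(H.perp X ⊓ Y) < m := by
    rcases (Submodule.finrank_mono (inf_le_right : H.perp X ⊓ Y ≤ Y)).lt_or_eq with h | h
    · rwa [h2] at h
    · exfalso
      have h7 : Y ≤ H.perp X := by rw [← eq_of_rk inf_le_right h]; exact inf_le_left
      have h8 := hm.2 _ (H.TI_sup hX hY h7)
      have h9 := eq_of_rk (le_sup_right : Y ≤ X ⊔ Y) (by
        have := Submodule.finrank_mono (le_sup_right : Y ≤ X ⊔ Y)
        omega)
      exact h3 (by rw [h9]; exact le_sup_left)
  refine ⟨by omega, ?_⟩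
  have h7 := Submodule.finrank_sup_add_finrank_inf_eq X (H.perp X ⊓ Y)
  have h8 : X ⊓ (H.perp X ⊓ Y) = X ⊓ Y := by
    rw [← inf_assoc, inf_eq_left.2 (H.TI_iff.1 hX)]
  rw [h8] at h7
  omega

/-- **the polar space of a symplectic form** -/
theorem polSp (hm : Witt g m) : PolSp (TI g (F := F)) m where
  bot := H.TI_bot
  down := fun h hY => TI.mono h hY
  ext := fun X hX h => H.ext_one hm hX h
  conn := by
    intro X Y Z hY hZ h1 h2 h3 h4 h5
    obtain ⟨M, hM, h6, h7⟩ := H.exists_max hm hY
    have h8 : X ≤ Z ⊓ M := le_inf h2 (h1.trans h6)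
    obtain ⟨t, ⟨ht1, ht2⟩, ht3⟩ := H.exists_mem (X := X) (Z := Z) hM h8 (by omega)
    refine ⟨X ⊔ (F ∙ t), le_sup_left, Submodule.finrank_sup_span_singleton ht3, ?_, ?_⟩
    · exact TI.mono (sup_le h6 (sup_le (h1.trans h6) (by rwa [Submodule.span_singleton_le_iff_mem]))) hM
    · rw [← sup_assoc, sup_eq_left.2 h2]
      exact H.TI_sup_span hZ ht1
  ex := by
    intro X Y hX hY h1 h2 h3 h4
    obtain ⟨h5, h6⟩ := H.finrank_L hm hX hY h1 h2 h3 h4
    refine ⟨X ⊔ (H.perp X ⊓ Y), H.TI_sup hX (TI.mono (inf_le_right : H.perp X ⊓ Y ≤ Y) hY) inf_le_left, le_sup_left, h6, ?_⟩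
    have h7 : H.perp X ⊓ Y ≤ (X ⊔ (H.perp X ⊓ Y)) ⊓ Y := le_inf le_sup_right inf_le_right
    have h8 := Submodule.finrank_mono h7
    have h9 : finrank F ↥((X ⊔ (H.perp X ⊓ Y)) ⊓ Y) < m := by
      rcases (Submodule.finrank_mono (inf_le_right : (X ⊔ (H.perp X ⊓ Y)) ⊓ Y ≤ Y)).lt_or_eq with h | h
      · rwa [h2] at h
      · exfalso
        have h12 := eq_of_rk (inf_le_right : (X ⊔ (H.perp X ⊓ Y)) ⊓ Y ≤ Y) h
        have h10 : Y ≤ X ⊔ (H.perp X ⊓ Y) := fun v hv => by
          rw [← h12] at hv; exact hv.1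
        have h11 := eq_of_rk h10 (by rw [h6, h2])
        exact h3 (by rw [h11]; exact le_sup_left)
    omega
  uq := by
    intro X Y Z Z' hX hY hZ hZ' h1 h2 h3 h4 h5 h6 h7 h8 h9 h10
    obtain ⟨h11, h12⟩ := H.finrank_L hm hX hY h1 h2 h5 h6
    have key : ∀ Z : Submodule F W, TI g Z → finrank F Z = m → X ≤ Z → finrank F ↥(Z ⊓ Y) + 1 = m →
        X ⊔ (H.perp X ⊓ Y) = Z := by
      intro Z hZ h3 h7 h9
      have k1 : Z ⊓ Y ≤ H.perp X ⊓ Y := inf_le_inf_right _ (fun z hz x hx => hZ z hz x (h7 hx))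
      have k2 := eq_of_rk k1 (by omega)
      refine eq_of_rk (sup_le h7 ?_) (by rw [h12, h3])
      rw [← k2]; exact inf_le_left
    rw [← key Z hZ h3 h7 h9, ← key Z' hZ' h4 h8 h10]

/-! ### The dimension -/

theorem finrank_eq (hm : Witt g m) : finrank F W = 2 * m := by
  obtain ⟨X, hX, hXm⟩ := hm.1
  have h1 := H.finrank_perp X
  have h2 := Submodule.finrank_mono (H.TI_iff.1 hX)
  -- `X^⊥ = X`
  have key : H.perp X ≤ X := by
    intro v hv
    by_contra hvX
    have h3 := hm.2 _ (H.TI_sup_span hX hv)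
    rw [Submodule.finrank_sup_span_singleton hvX] at h3
    omega
  have h3 := Submodule.finrank_mono key
  omega

theorem perp_max (hm : Witt g m) {X : Submodule F W} (hX : TI g X) (h : finrank F X = m) : H.perp X = X := by
  have h1 := H.finrank_perp X
  have h2 := H.finrank_eq hm
  exact (eq_of_rk (H.TI_iff.1 hX) (by omega)).symm

end Symp

end Cfsg.Agent.ParSys.Polar.Sympl

end

section


/-!
# Groups of isometries of a symplectic space which contain the transvections

`SAct rho sigma` : `C` acts linearly on the symplectic space `W` (characteristic 2), preserves the form and induces all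
the transvections; `sigma` is the action on the subspaces.

* `act : Act sigma (TI g)`; `siegel` : the Siegel transformations;
* `card_pan` : all the panels of a maximal flag have `|F| + 1` members;
* `exists_fl_of` : a maximal flag through a given flag of length `k`.
-/

set_option autoImplicit false
set_option linter.unusedSectionVars false

namespace Cfsg.Agent.ParSys.Polar.Sympl

open Module Cfsg.Agent.ParSys.Polar.Flags

variable {F W : Type*} [Field F] [Finite F] [AddCommGroup W] [Module F W]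

/-- `C` acts by isometries and induces all the transvections -/
structure SAct {C : Type*} [Group C] (g : W → W → F) (rho : C → W ≃+ W)
    (sigma : C →* Equiv.Perm (Submodule F W)) : Prop where
  mul : ∀ a b v, rho (a * b) v = rho a (rho b v)
  sig : ∀ c X w, w ∈ sigma c X ↔ ∃ v ∈ X, rho c v = w
  lin : ∀ c (s : F) v, rho c (s • v) = s • rho c v
  iso : ∀ c u v, g (rho c u) (rho c v) = g u v
  tv : ∀ (y : W) (a : F), ∃ c, ∀ v, rho c v = v + (a * g v y) • y

namespace SAct

variable {C : Type*} [Group C] {g : W → W → F} {rho : C → W ≃+ W}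
  {sigma : C →* Equiv.Perm (Submodule F W)} (H : Symp g) (A : SAct g rho sigma)

include A

theorem one (v : W) : rho 1 v = v := by
  have h := A.mul 1 1 v
  rw [mul_one] at h
  exact (rho 1).injective h.symm

theorem inv_mul_apply (c : C) (v : W) : rho c⁻¹ (rho c v) = v := by
  rw [← A.mul, inv_mul_cancel, A.one]

theorem mul_inv_apply (c : C) (v : W) : rho c (rho c⁻¹ v) = v := by
  rw [← A.mul, mul_inv_cancel, A.one]

theorem mem {c : C} {X : Submodule F W} {v : W} (hv : v ∈ X) : rho c v ∈ sigma c X := (A.sig c X _).2 ⟨v, hv, rfl⟩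

theorem mem_iff {c : C} {X : Submodule F W} {v : W} : rho c v ∈ sigma c X ↔ v ∈ X :=
  ⟨fun h => by
    obtain ⟨u, hu, h1⟩ := (A.sig c X _).1 h
    rwa [← (rho c).injective h1], A.mem⟩

theorem card_eq [FiniteDimensional F W] (c : C) (X : Submodule F W) :
    finrank F ↥(sigma c X) = finrank F X := by
  let e : X → sigma c X := fun v => ⟨rho c (v : W), A.mem v.2⟩
  have he : Function.Bijective e := by
    constructor
    · intro v u h
      exact Subtype.ext ((rho c).injective (congrArg Subtype.val h))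
    · rintro ⟨w, hw⟩
      obtain ⟨v, hv, rfl⟩ := (A.sig c X w).1 hw
      exact ⟨⟨v, hv⟩, rfl⟩
  have h1 := Nat.card_congr (Equiv.ofBijective e he)
  rw [Module.natCard_eq_pow_finrank (K := F), Module.natCard_eq_pow_finrank (K := F) (V := ↥(sigma c X))] at h1
  exact (Nat.pow_right_injective (Finite.one_lt_card (α := F)) h1).symm

theorem eq_of_fix {c : C} {X : Submodule F W} (h : ∀ v ∈ X, rho c v = v) : sigma c X = X := by
  ext w
  rw [A.sig]
  constructor
  · rintro ⟨v, hv, rfl⟩; rwa [h v hv]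
  · intro hw; exact ⟨w, hw, h w hw⟩

/-- the image of the span -/
theorem sigma_sup_span {c : C} {X : Submodule F W} {x x' : W} (hX : ∀ v ∈ X, rho c v = v)
    (hx : rho c x = x') :
    sigma c (X ⊔ (F ∙ x)) = X ⊔ (F ∙ x') := by
  ext w
  rw [A.sig]
  constructor
  · rintro ⟨v, hv, rfl⟩
    obtain ⟨a, ha, b, hb, rfl⟩ := Submodule.mem_sup.1 hv
    obtain ⟨s, rfl⟩ := Submodule.mem_span_singleton.1 hb
    rw [map_add, hX a ha, A.lin, hx]
    exact Submodule.add_mem_sup ha (Submodule.smul_mem _ _ (Submodule.mem_span_singleton_self x'))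
  · intro hw
    obtain ⟨a, ha, b, hb, rfl⟩ := Submodule.mem_sup.1 hw
    obtain ⟨s, rfl⟩ := Submodule.mem_span_singleton.1 hb
    refine ⟨a + s • x, Submodule.add_mem_sup ha (Submodule.smul_mem _ _ (Submodule.mem_span_singleton_self x)), ?_⟩
    rw [map_add, hX a ha, A.lin, hx]

include H

/-- the Siegel transformations -/
theorem siegel {y w : W} (a : F) (hw : g w y = 0) :
    ∃ c, ∀ v, rho c v = v + g v y • w + (g v w + a * g v y) • y := by
  obtain ⟨c₁, h1⟩ := A.tv (y + w) 1
  obtain ⟨c₂, h2⟩ := A.tv w 1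
  obtain ⟨c₃, h3⟩ := A.tv y (1 + a)
  have hw' : g y w = 0 := H.zero_comm hw
  refine ⟨c₃ * (c₂ * c₁), fun v => ?_⟩
  rw [A.mul, A.mul, h1, h2, h3]
  simp only [one_mul, H.add, H.smul, H.add_r, H.self, hw, hw', mul_zero, add_zero, zero_add]
  have e := H.two_w (g v y • y)
  have e1 := H.two_w (g v w • w)
  have e2 : (g v y • w + g v y • w) = 0 := H.two_w _
  have e3 : (g v w • y + g v w • y) = 0 := H.two_w _
  simp only [smul_add, add_smul, mul_smul, one_smul, add_mul, one_mul]
  calc v + (g v y • y + g v w • y + (g v y • w + g v w • w)) + g v w • w + (g v y • y + a • g v y • y)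
      = v + g v y • w + (g v w • y + a • g v y • y) + (g v y • y + g v y • y) + (g v w • w + g v w • w) := by abel
    _ = _ := by rw [e, e1, add_zero, add_zero]

variable [FiniteDimensional F W]

/-- the transitivity, non-orthogonal vectors -/
theorem tr_ne {X : Submodule F W} {x x' : W} (h1 : x ∈ H.perp X) (h1' : x' ∈ H.perp X) (h : g x x' ≠ 0) :
    ∃ c, (∀ v ∈ X, rho c v = v) ∧ sigma c (X ⊔ (F ∙ x)) = X ⊔ (F ∙ x') := by
  obtain ⟨c, hc⟩ := A.tv (x + x') (g x x')⁻¹
  have hX : ∀ v ∈ X, rho c v = v := fun v hv => by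
    rw [hc, H.add_r, H.zero_comm (h1 v hv), H.zero_comm (h1' v hv)]; simp
  refine ⟨c, hX, A.sigma_sup_span hX ?_⟩
  rw [hc, H.add_r, H.self, zero_add, inv_mul_cancel₀ h, one_smul, ← add_assoc, H.two_w, zero_add]

/-- the transitivity -/
theorem tr_span {X : Submodule F W} {x x' : W}
    (h1 : x ∈ H.perp X) (h1' : x' ∈ H.perp X) (h2 : x ∉ X) (h2' : x' ∉ X) :
    ∃ c, (∀ v ∈ X, rho c v = v) ∧ sigma c (X ⊔ (F ∙ x)) = X ⊔ (F ∙ x') := by
  by_cases hb : g x x' = 0
  · obtain ⟨z, hz, hz1, hz2⟩ : ∃ z ∈ H.perp X, g z x ≠ 0 ∧ g z x' ≠ 0 := by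
      obtain ⟨z₁, hz1, hz2⟩ := H.exists_ne h2
      obtain ⟨z₂, hz3, hz4⟩ := H.exists_ne h2'
      by_cases h5 : g z₁ x' = 0
      · by_cases h6 : g z₂ x = 0
        · exact ⟨z₁ + z₂, (H.perp X).add_mem hz1 hz3, by rwa [H.add, h6, add_zero],
            by rwa [H.add, h5, zero_add]⟩
        · exact ⟨z₂, hz3, h6, hz4⟩
      · exact ⟨z₁, hz1, hz2, h5⟩
    obtain ⟨c₁, hc1, hc2⟩ := tr_ne H A h1 hz (H.ne_comm hz1)
    obtain ⟨c₂, hc3, hc4⟩ := tr_ne H A hz h1' hz2
    refine ⟨c₂ * c₁, fun v hv => by rw [A.mul, hc1 v hv, hc3 v hv], ?_⟩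
    rw [map_mul, Equiv.Perm.mul_apply, hc2, hc4]
  · exact tr_ne H A h1 h1' hb

omit A in
/-- a vector generating `Y` over `X` -/
theorem exists_gen {X Y : Submodule F W} (hY : TI g Y) (h : X ≤ Y) (hr : finrank F Y = finrank F X + 1) :
    ∃ x, x ∈ H.perp X ∧ x ∉ X ∧ Y = X ⊔ (F ∙ x) := by
  obtain ⟨x, hx, hxX⟩ : ∃ x ∈ Y, x ∉ X := by
    by_contra hc
    push Not at hc
    have h3 : Y ≤ X := hc
    have := Submodule.finrank_mono h3
    omega
  refine ⟨x, fun v hv => hY x hx v (h hv), hxX, ?_⟩
  symm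
  exact eq_of_rk (sup_le h (by rwa [Submodule.span_singleton_le_iff_mem]))
    (by rw [Submodule.finrank_sup_span_singleton hxX, hr])

/-- **`C` acts on the polar space as required in `Flags`** -/
theorem act : Act sigma (TI g (F := F)) where
  le c X Y h := by
    intro w hw
    obtain ⟨v, hv, rfl⟩ := (A.sig c X w).1 hw
    exact A.mem (h hv)
  rk c X := A.card_eq c X
  sing c X hX := by
    intro x hx y hy
    obtain ⟨v, hv, rfl⟩ := (A.sig c X x).1 hx
    obtain ⟨u, hu, rfl⟩ := (A.sig c X y).1 hy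
    rw [A.iso, hX v hv u hu]
  tr X Y Z hY hZ h1 h2 h3 h4 := by
    obtain ⟨x, hx1, hx2, rfl⟩ := exists_gen H hY h1 h3
    obtain ⟨x', hx1', hx2', rfl⟩ := exists_gen H hZ h2 h4
    obtain ⟨c, hc1, hc2⟩ := tr_span H A hx1 hx1' hx2 hx2'
    exact ⟨c, fun T hT => A.eq_of_fix fun v hv => hc1 v (hT hv), hc2⟩

end SAct

/-! ### Flags and panels -/

namespace Symp

variable [FiniteDimensional F W] {g : W → W → F} (H : Symp g) {m : ℕ} {f : ℕ → Submodule F W}

include H

/-- a maximal flag through a given flag -/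
theorem exists_fl_of (hm : Witt g m) {k : ℕ} {f₀ : ℕ → Submodule F W} (h : Fl (TI g (F := F)) k f₀) :
    k ≤ m ∧ ∃ f, Fl (TI g (F := F)) m f ∧ ∀ d ≤ k, f d = f₀ d := by
  have hk : k ≤ m := by
    have := hm.2 _ h.sing
    rwa [h.rk k le_rfl] at this
  exact ⟨hk, exists_ext (H.polSp hm) h hk⟩

omit H in
/-- the number of subspaces between `A` and `D` -/
theorem card_between {A D : Submodule F W} (h : A ≤ D) (hr : finrank F D = finrank F A + 2) :
    Nat.card {X : Submodule F W | A ≤ X ∧ X ≤ D ∧ finrank F X = finrank F A + 1} = Nat.card F + 1 := by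
  have hW : Finite W := Module.finite_of_finite F
  have hQ := Finite.one_lt_card (α := F)
  have h1 := Hermit.card_compl h
  have e : ∀ X : Submodule F W, ∀ v, A ≤ X → v ∈ X → v ∉ A → finrank F X = finrank F A + 1 →
      X = A ⊔ (F ∙ v) := fun X v h1 h2 h3 h4 => by
    symm
    exact eq_of_rk (sup_le h1 (by rwa [Submodule.span_singleton_le_iff_mem]))
      (by rw [Submodule.finrank_sup_span_singleton h3, h4])
  have h2 := Hermit.card_spread (A := A) (X := {X : Submodule F W | A ≤ X ∧ X ≤ D ∧ finrank F X = finrank F A + 1})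
    (T := {v : W | v ∈ D ∧ v ∉ A})
    (b := Nat.card F ^ (finrank F A + 1)) (fun x hx => hx.1)
    (fun x hx => by rw [Module.natCard_eq_pow_finrank (K := F), hx.2.2])
    (fun v => ?_) (fun x hx x' hx' v hv h1 h2 => ?_)
  · rw [Module.natCard_eq_pow_finrank (K := F) (V := ↥A), Module.natCard_eq_pow_finrank (K := F) (V := ↥D), hr] at h1
    rw [Module.natCard_eq_pow_finrank (K := F) (V := ↥A)] at h2
    have hR : 0 < Nat.card F ^ finrank F A := pow_pos (by omega) _
    rw [pow_succ, pow_succ] at h1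
    rw [pow_succ] at h2
    generalize Nat.card {v : W | v ∈ D ∧ v ∉ A} = T at *
    generalize Nat.card {X : Submodule F W | A ≤ X ∧ X ≤ D ∧ finrank F X = finrank F A + 1} = P at *
    generalize Nat.card F ^ finrank F A = R at *
    generalize Nat.card F = Q at *
    zify at h1 h2 hR hQ ⊢
    have h3 : (R : ℤ) * (Q - 1) * (P - (Q + 1)) = 0 := by linear_combination -h2 + h1
    rcases mul_eq_zero.1 h3 with h | h
    · rcases mul_eq_zero.1 h with h | h <;> omega
    · linarith
  · constructor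
    · rintro ⟨hv, hv'⟩
      exact ⟨hv', A ⊔ (F ∙ v), ⟨le_sup_left, sup_le h (by rwa [Submodule.span_singleton_le_iff_mem]),
        Submodule.finrank_sup_span_singleton hv'⟩, Submodule.mem_sup_right (Submodule.mem_span_singleton_self v)⟩
    · rintro ⟨hv, x, hx, hvx⟩
      exact ⟨hx.2.1 hvx, hv⟩
  · rw [e x v hx.1 h1 hv hx.2.2, e x' v hx'.1 h2 hv hx'.2.2]

/-- **all the panels have `|F| + 1` members** -/
theorem card_pan (hm : Witt g m) (hf : Fl (TI g (F := F)) m f) {j : ℕ} (hj : 1 ≤ j) (hjm : j ≤ m) :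
    Nat.card (Flags.Pan (TI g) m f j) = Nat.card F + 1 := by
  obtain ⟨i, rfl⟩ := Nat.exists_eq_add_of_le' hj
  have hS := H.polSp hm
  rcases hjm.lt_or_eq with hlt | heq
  · have h1 := card_between (hf.le (a := i) (b := i + 2) (by omega) (by omega))
      (by rw [hf.rk _ (by omega), hf.rk _ (by omega)])
    rw [← h1]
    congr 2
    ext X
    rw [hf.rk i (by omega)]
    constructor
    · rintro ⟨-, h2, h3, h4⟩
      exact ⟨h3 i rfl, h4 hlt, h2⟩
    · rintro ⟨h2, h3, h4⟩
      refine ⟨hS.down h3 (hf.si hS (by omega)), h4, fun d hd => ?_, fun _ => h3⟩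
      obtain rfl : d = i := by omega
      exact h2
  · have h0 : finrank F ↥(H.perp (f i)) = finrank F ↥(f i) + 2 := by
      have h1 := H.finrank_perp (f i)
      have h2 := H.finrank_eq hm
      rw [hf.rk i (by omega)] at h1 ⊢
      omega
    have h1 := card_between (H.TI_iff.1 (hf.si hS (d := i) (by omega))) h0
    rw [← h1]
    congr 2
    ext X
    rw [hf.rk i (by omega)]
    constructor
    · rintro ⟨h1, h2, h3, -⟩
      exact ⟨h3 i rfl, fun v hv x hx => h1 v hv x (h3 i rfl hx), h2⟩
    · rintro ⟨h2, h3, h4⟩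
      refine ⟨?_, h4, fun d hd => ?_, fun h => by omega⟩
      · obtain ⟨x, hx, hxX⟩ : ∃ x ∈ X, x ∉ f i := by
          by_contra hc
          push Not at hc
          have h5 : X ≤ f i := hc
          have := Submodule.finrank_mono h5
          rw [hf.rk i (by omega)] at this
          omega
        have e : f i ⊔ (F ∙ x) = X := eq_of_rk (sup_le h2 (by rwa [Submodule.span_singleton_le_iff_mem]))
          (by rw [Submodule.finrank_sup_span_singleton hxX, h4, hf.rk i (by omega)])
        rw [← e]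
        exact H.TI_sup_span (hf.si hS (by omega)) (h3 hx)
      · obtain rfl : d = i := by omega
        exact h2

end Symp

end Cfsg.Agent.ParSys.Polar.Sympl

end

section


/-!
# The stabiliser of a maximal flag in a group of isometries of a symplectic space

`Pol C g rho sigma m f` : `C ≤ G` acts by isometries on the symplectic space `W` (characteristic 2), induces all the
transvections, `f` is a maximal flag; `B = fst C sigma m f ∅` is the stabiliser of the flag.

* `Pol.siegel_mem` : the Siegel elements of `B`;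
* `Pol.card_le` : `|Q| |F|^(m^2) ≤ |B|`, `Q` the kernel;
* `Pol.self_norm` : `B` is self-normalising in `C`;
* `Pol.pow_triv` (`|F| = 2`) : `x ^ (2 ^ (m + 1))` acts trivially, `x ∈ B`;
* `exists_fl_inv` (`|F| = 2`) : a 2-group fixes a maximal flag through a given invariant flag;
* `Pol.rk_two`, `Pol.rk_three`, `Pol.rk_four`, `Pol.relIndex`, `Pol.gen`.
-/

set_option autoImplicit false
set_option linter.unusedSectionVars false

namespace Cfsg.Agent.ParSys.Polar.Sympl

open Module Cfsg.Agent.ParSys.Polar.Flags Cfsg.Agent.ParSys.Polar.Incid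

variable {F W : Type*} [Field F] [Finite F] [AddCommGroup W] [Module F W] {G : Type*} [Group G]

/-- `C` acts on a symplectic space of Witt index `m`, `f` is a maximal flag -/
structure Pol (C : Subgroup G) (g : W → W → F) (rho : ↥C → W ≃+ W)
    (sigma : ↥C →* Equiv.Perm (Submodule F W)) (m : ℕ) (f : ℕ → Submodule F W) : Prop where
  H : Symp g
  A : SAct g rho sigma
  hm : Witt g m
  hf : Fl (TI g) m f

variable {C : Subgroup G} {g : W → W → F} {rho : ↥C → W ≃+ W}
  {sigma : ↥C →* Equiv.Perm (Submodule F W)} {m : ℕ} {f : ℕ → Submodule F W}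

namespace Pol

variable (p : Pol C g rho sigma m f) [FiniteDimensional F W]

include p

theorem polSp : PolSp (TI g (F := F)) m := p.H.polSp p.hm

theorem act : Act sigma (TI g (F := F)) := SAct.act p.H p.A

/-- an element which acts as a Siegel transformation with singular vector in `f i` and centre in `(f i)^⊥` -/
theorem siegel_fix {i : ℕ} (him : i ≤ m) {y w : W} {a : F} (hy : y ∈ f i)
    (hw : w ∈ p.H.perp (f i)) {c : ↥C}
    (hc : ∀ v, rho c v = v + g v y • w + (g v w + a * g v y) • y) : ∀ d ≤ m, sigma c (f d) = f d := by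
  have hym : y ∈ f m := p.hf.le him le_rfl hy
  have H := p.H
  have k2 : ∀ d ≤ m, ∀ v ∈ f d, rho c v = v + g v w • y := fun d hd v hv => by
    rw [hc, p.hf.sing v (p.hf.le hd le_rfl hv) y hym]; simp
  have k3 : ∀ v ∈ f i, g v w = 0 := fun v hv => H.zero_comm (hw v hv)
  have k4 : ∀ d ≤ m, ∀ v ∈ f d, rho c v ∈ f d := fun d hd v hv => by
    rw [k2 d hd v hv]
    by_cases hdi : d ≤ i
    · rw [k3 v (p.hf.le hdi him hv), zero_smul, add_zero]; exact hv
    · exact Submodule.add_mem _ hv (Submodule.smul_mem _ _ (p.hf.le (by omega) hd hy))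
  intro d hd
  apply eq_of_rk
  · intro z hz
    obtain ⟨v, hv, rfl⟩ := (p.A.sig _ _ _).1 hz
    exact k4 d hd v hv
  · exact p.A.card_eq _ _

/-- the Siegel elements of the flag stabiliser -/
theorem siegel_mem {i : ℕ} (him : i ≤ m) {y w : W} (a : F) (hy : y ∈ f i)
    (hw : w ∈ p.H.perp (f i)) :
    ∃ c : ↥C, (c : G) ∈ fst C sigma m f ∅ ∧ ∀ v, rho c v = v + g v y • w + (g v w + a * g v y) • y := by
  obtain ⟨c, hc⟩ := SAct.siegel p.H p.A (y := y) (w := w) a (hw y hy)
  refine ⟨c, ?_, hc⟩
  rw [coe_mem_fst]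
  exact fun d hd _ => p.siegel_fix him hy hw hc d hd

/-- **the order of the flag stabiliser** -/
theorem card_le [Finite G] {Q : Subgroup G} (hQC : Q ≤ C) (hQ : ∀ x (h : x ∈ Q) v, rho ⟨x, hQC h⟩ v = v) :
    Nat.card Q * Nat.card F ^ (m ^ 2) ≤ Nat.card (fst C sigma m f ∅) := by
  classical
  have hW : Finite W := Module.finite_of_finite F
  have H := p.H
  have hex : ∀ d, ∃ v, d < m → v ∈ f (d + 1) ∧ v ∉ f d := by
    intro d
    by_cases hd : d < m
    · obtain ⟨v, -, h1, h2⟩ := SAct.exists_gen H (p.hf.si p.polSp (d := d + 1) hd) (p.hf.mono d hd)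
        (by rw [p.hf.rk _ hd, p.hf.rk _ hd.le])
      exact ⟨v, fun _ => ⟨by rw [h2]; exact Submodule.mem_sup_right (Submodule.mem_span_singleton_self v), h1⟩⟩
    · exact ⟨0, fun h => absurd h hd⟩
  choose e₀ he₀ using hex
  let e : ℕ → W := fun d => e₀ (d - 1)
  have he1 : ∀ d < m, e (d + 1) ∈ f (d + 1) := fun d hd => (he₀ d hd).1
  have he2 : ∀ d < m, e (d + 1) ∉ f d := fun d hd => (he₀ d hd).2
  obtain ⟨e', he'⟩ := CardU.exists_dual (sg := id) (g := g) (f := f) (e := e) H.add H.smul H.sym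
    (fun _ _ => rfl) (fun _ _ => rfl) (fun _ => rfl) (fun w hw => H.nd w fun u => H.zero_comm (hw u))
    p.hf.mono he1 he2
  -- `f i` is spanned by the `e j`
  have hspan : ∀ i ≤ m, ∀ w, (∀ j, 1 ≤ j → j ≤ i → g w (e j) = 0) → w ∈ H.perp (f i) := by
    intro i
    induction i with
    | zero =>
      intro _ w _ x hx
      rw [p.hf.zero, Submodule.mem_bot] at hx
      rw [hx]; exact H.zero_r w
    | succ i ih =>
      intro hi w hw
      have h1 : f (i + 1) = f i ⊔ (F ∙ e (i + 1)) := by
        symm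
        exact eq_of_rk (sup_le (p.hf.mono i hi) (by
          rw [Submodule.span_singleton_le_iff_mem]; exact he1 i hi))
          (by rw [Submodule.finrank_sup_span_singleton (he2 i hi), p.hf.rk _ hi, p.hf.rk i (by omega)])
      rw [h1, H.mem_perp_sup, H.mem_perp_span]
      exact ⟨ih (by omega) w fun j h1 h2 => hw j h1 (by omega), hw (i + 1) (by omega) le_rfl⟩
  let rho' : G → W → W := fun x v => if h : x ∈ C then rho ⟨x, h⟩ v else v
  have hr : ∀ x (h : x ∈ C) v, rho' x v = rho ⟨x, h⟩ v := fun x h v => dif_pos h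
  set U := fst C sigma m f ∅ with hU
  have hUC : ∀ x ∈ U, x ∈ C := fun x hx => hx.1
  have D : CardU.Dat F id g rho' U m e e' :=
    { one := fun v => by rw [hr 1 C.one_mem]; exact p.A.one v
      mul := fun x hx y hy v => by
        rw [hr _ (mul_mem (hUC x hx) (hUC y hy)), hr x (hUC x hx), hr y (hUC y hy)]
        exact p.A.mul ⟨x, hUC x hx⟩ ⟨y, hUC y hy⟩ v
      sg_one := rfl
      sg_add := fun _ _ => rfl
      g_add := H.add
      g_smul := H.smul
      g_sym := H.sym
      ee' := he'
      tr := fun w => ⟨0, by rw [H.self]; simp⟩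
      sieg := by
        intro i hi1 hi w hw a _
        obtain ⟨d, rfl⟩ := Nat.exists_eq_add_of_le' hi1
        obtain ⟨x, hx, h1⟩ := p.siegel_mem hi a (he1 d hi) (hspan _ hi w fun j h1 h2 => (hw j h1 h2).1)
        exact ⟨x, hx, fun v => by rw [hr x x.2]; exact h1 v⟩ }
  have h1 := D.card_le' (k := m) le_rfl
  have hQU : Nat.card Q ≤ Nat.card (D.Uc m) := by
    have h2 : Q ≤ D.Uc m := fun x hx => by
      have h3 : ∀ v, rho ⟨x, hQC hx⟩ v = v := fun v => hQ x hx v
      refine ⟨⟨hQC hx, fun d _ _ => p.A.eq_of_fix fun v _ => h3 v⟩, fun j _ _ => ?_⟩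
      rw [hr x (hQC hx)]; exact h3 _
    exact Subgroup.card_le_of_le h2
  have hW2 : Nat.card W = Nat.card F ^ (2 * m) := by
    rw [Module.natCard_eq_pow_finrank (K := F), H.finrank_eq p.hm]
  have hF1 := Finite.one_lt_card (α := F)
  have hWs : ∀ i, i < m → Nat.card F ^ (2 * (m - (i + 1)) + 1) ≤
      Nat.card (D.Ws (i + 1)) * Nat.card {a : F // a + id a = 0} := by
    intro i hi
    have h2 := D.card_Ws (i + 1)
    rw [hW2] at h2
    have h3 : Nat.card F ^ (2 * m) = Nat.card F ^ (2 * (m - (i + 1))) * Nat.card F ^ (2 * (i + 1)) := by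
      rw [← pow_add]; congr 1; omega
    rw [h3] at h2
    have h4 := Nat.le_of_mul_le_mul_right h2 (by positivity)
    have h5 : Nat.card {a : F // a + id a = 0} = Nat.card F :=
      Nat.card_congr (Equiv.subtypeUnivEquiv fun a => H.two_self a)
    rw [h5, pow_succ]
    exact Nat.mul_le_mul_right _ h4
  have hprod : ∀ k ≤ m, Nat.card F ^ (k * (2 * m - k)) ≤
      ∏ i ∈ Finset.range k, (Nat.card (D.Ws (i + 1)) * Nat.card {a : F // a + id a = 0}) := by
    intro k hk
    induction k with
    | zero => simp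
    | succ k ih =>
      rw [Finset.prod_range_succ]
      refine le_trans ?_ (Nat.mul_le_mul (ih (by omega)) (hWs k (by omega)))
      rw [← pow_add]
      apply le_of_eq
      congr 1
      obtain ⟨r, rfl⟩ : ∃ r, m = (k + 1) + r := ⟨m - (k + 1), by omega⟩
      have e1 : 2 * (k + 1 + r) - (k + 1) = (k + 1) + 2 * r := by omega
      have e2 : 2 * (k + 1 + r) - k = k + 2 + 2 * r := by omega
      have e3 : k + 1 + r - (k + 1) = r := by omega
      rw [e1, e2, e3]
      ring
  refine le_trans ?_ h1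
  rw [mul_comm]
  refine Nat.mul_le_mul ?_ hQU
  have h2 := hprod m le_rfl
  have e : m * (2 * m - m) = m ^ 2 := by
    have : 2 * m - m = m := by omega
    rw [this, pow_two]
  rwa [e] at h2

/-- **the flag stabiliser is self-normalising** -/
theorem self_norm {x : G} (hx : x ∈ C) (h : ∀ b ∈ fst C sigma m f ∅, x⁻¹ * b * x ∈ fst C sigma m f ∅) :
    x ∈ fst C sigma m f ∅ := by
  have H := p.H
  have hS := p.polSp
  -- the flag `x f` is invariant
  have hinv : ∀ b : ↥C, (b : G) ∈ fst C sigma m f ∅ → ∀ d ≤ m,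
      sigma b (sigma ⟨x, hx⟩ (f d)) = sigma ⟨x, hx⟩ (f d) := by
    intro b hb d hd
    have h1 := h b hb
    have e : x⁻¹ * (b : G) * x = (((⟨x, hx⟩ : ↥C)⁻¹ * b * ⟨x, hx⟩ : ↥C) : G) := rfl
    rw [e, coe_mem_fst] at h1
    have h2 := h1 d hd (by simp)
    rw [mul_assoc, map_mul, map_mul, map_inv, Equiv.Perm.mul_apply, Equiv.Perm.mul_apply,
      Equiv.Perm.inv_eq_iff_eq] at h2
    exact h2
  set c : ↥C := ⟨x, hx⟩ with hc
  have hA := p.act
  have key : ∀ d ≤ m, sigma c (f d) = f d := by
    intro d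
    induction d with
    | zero =>
      intro _
      rw [p.hf.zero]
      apply Submodule.finrank_eq_zero.1
      rw [hA.rk]
      exact finrank_bot F W
    | succ d ih =>
      intro hd
      have ih := ih (by omega)
      set X := sigma c (f (d + 1)) with hX
      have hXr : finrank F X = d + 1 := by rw [hX, hA.rk, p.hf.rk _ hd]
      have hXd : f d ≤ X := by rw [← ih]; exact hA.le c (p.hf.mono d hd)
      have hXt : TI g X := hA.sing c (p.hf.si hS hd)
      obtain ⟨v, hv, hvd⟩ : ∃ v ∈ X, v ∉ f d := by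
        by_contra hcon
        push Not at hcon
        have h5 : X ≤ f d := hcon
        have := Submodule.finrank_mono h5
        rw [p.hf.rk d (by omega)] at this
        omega
      obtain ⟨y, hyp, hyd, hfy⟩ := SAct.exists_gen H (p.hf.si hS hd) (p.hf.mono d hd)
        (by rw [p.hf.rk _ hd, p.hf.rk d (by omega)])
      have hy : y ∈ f (d + 1) := by
        rw [hfy]; exact Submodule.mem_sup_right (Submodule.mem_span_singleton_self y)
      have hsv : ∀ w ∈ H.perp (f (d + 1)), ∀ a : F, g v y • w + (g v w + a * g v y) • y ∈ X := by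
        intro w hw a
        obtain ⟨b, hb, hbv⟩ := p.siegel_mem hd a hy hw
        have h1 : rho b v ∈ X := by
          have := p.A.mem (c := b) hv
          rwa [hX, hinv b hb _ hd] at this
        rw [hbv] at h1
        have h2 := X.sub_mem h1 hv
        have e : v + g v y • w + (g v w + a * g v y) • y - v = g v y • w + (g v w + a * g v y) • y := by abel
        rwa [e] at h2
      by_cases hyX : y ∈ X
      · symm
        refine eq_of_rk ?_ (by rw [hXr, p.hf.rk _ hd])
        rw [hfy]
        exact sup_le hXd (by rwa [Submodule.span_singleton_le_iff_mem])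
      · -- `g v y = 0`
        have h0 : g v y = 0 := by
          by_contra hne
          have h1 := hsv 0 (H.perp _).zero_mem 1
          rw [smul_zero, zero_add, H.zero_r, zero_add, one_mul] at h1
          exact hyX ((Submodule.smul_mem_iff X hne).1 h1)
        have h2 : ∀ w ∈ H.perp (f (d + 1)), g v w = 0 := by
          intro w hw
          by_contra hne
          have h1 := hsv w hw 0
          rw [h0, zero_smul, zero_add, zero_mul, add_zero] at h1
          exact hyX ((Submodule.smul_mem_iff X hne).1 h1)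
        have h3 : v ∈ f (d + 1) := by
          rw [← H.perp_perp (f (d + 1))]
          exact h2
        have h4 : X = f d ⊔ (F ∙ v) := by
          symm
          exact eq_of_rk (sup_le hXd (by rwa [Submodule.span_singleton_le_iff_mem]))
            (by rw [Submodule.finrank_sup_span_singleton hvd, hXr, p.hf.rk d (by omega)])
        refine eq_of_rk ?_ (by rw [hXr, p.hf.rk _ hd])
        rw [h4]
        exact sup_le (p.hf.mono d hd) (by rwa [Submodule.span_singleton_le_iff_mem])
  exact ⟨hx, fun d hd _ => key d hd⟩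

/-! ### `|F| = 2` -/

/-- an element of the flag stabiliser acts trivially on the factors of the flag, `|F| = 2` -/
theorem sub_mem_of_two (hF : Nat.card F = 2) {c : ↥C} (hc : (c : G) ∈ fst C sigma m f ∅) {d : ℕ} (hd : d < m)
    {v : W} (hv : v ∈ f (d + 1)) : rho c v - v ∈ f d := by
  classical
  rw [coe_mem_fst] at hc
  have h1 := hc (d + 1) hd (by simp)
  have h2 := hc d hd.le (by simp)
  have h3 : rho c v ∈ f (d + 1) := by rw [← h1]; exact p.A.mem hv
  have hF1 : ∀ a : F, a = 0 ∨ a = 1 := by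
    intro a
    by_contra hcon
    push Not at hcon
    have := Fintype.ofFinite F
    have h4 : ({0, 1, a} : Finset F).card ≤ 2 := by
      rw [← hF, Nat.card_eq_fintype_card]
      exact Finset.card_le_univ _
    rw [Finset.card_eq_three.2 ⟨0, 1, a, zero_ne_one, Ne.symm hcon.1, Ne.symm hcon.2, rfl⟩] at h4
    omega
  by_cases hvd : v ∈ f d
  · exact Submodule.sub_mem _ (by rw [← h2]; exact p.A.mem hvd) hvd
  -- `f (d+1) = f d + ⟨v⟩`
  have h4 : f (d + 1) = f d ⊔ (F ∙ v) := by
    symm
    exact eq_of_rk (sup_le (p.hf.mono d hd) (by rwa [Submodule.span_singleton_le_iff_mem]))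
      (by rw [Submodule.finrank_sup_span_singleton hvd, p.hf.rk _ hd, p.hf.rk d hd.le])
  rw [h4] at h3
  obtain ⟨a, ha, b, hb, h5⟩ := Submodule.mem_sup.1 h3
  obtain ⟨s, rfl⟩ := Submodule.mem_span_singleton.1 hb
  rcases hF1 s with rfl | rfl
  · exfalso
    rw [zero_smul, add_zero] at h5
    rw [h5] at ha
    rw [← h2, p.A.mem_iff] at ha
    exact hvd ha
  · rw [← h5, one_smul, add_sub_cancel_right]
    exact ha

theorem rho_pow_one {c : ↥C} {n : ℕ} {v : W} (h : rho (c ^ n) v = v) : rho (c ^ (n * 2)) v = v := by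
  rw [pow_mul, pow_two, p.A.mul, h, h]

/-- **the flag stabiliser is a 2-group modulo the kernel**, `|F| = 2` -/
theorem pow_triv (hF : Nat.card F = 2) {c : ↥C} (hc : (c : G) ∈ fst C sigma m f ∅) (v : W) :
    rho (c ^ 2 ^ (m + 1)) v = v := by
  have hmem : ∀ k : ℕ, ((c ^ k : ↥C) : G) ∈ fst C sigma m f ∅ := fun k => by
    rw [Subgroup.coe_pow]; exact pow_mem hc k
  have key : ∀ d ≤ m, ∀ v ∈ f d, rho (c ^ 2 ^ d) v = v := by
    intro d
    induction d with
    | zero =>
      intro _ v hv
      rw [p.hf.zero, Submodule.mem_bot] at hv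
      rw [hv, map_zero]
    | succ d ih =>
      intro hd v hv
      have h1 := p.sub_mem_of_two hF (hmem (2 ^ d)) hd hv
      have h2 := ih (by omega) _ h1
      rw [pow_succ, pow_mul, pow_two, p.A.mul]
      have h3 : rho (c ^ 2 ^ d) v = v + (rho (c ^ 2 ^ d) v - v) := by abel
      rw [h3, map_add, h2]
      have h4 := p.H.two_w (rho (c ^ 2 ^ d) v - v)
      calc rho (c ^ 2 ^ d) v + (rho (c ^ 2 ^ d) v - v) = v + ((rho (c ^ 2 ^ d) v - v) + (rho (c ^ 2 ^ d) v - v)) := by
            abel
        _ = v := by rw [h4, add_zero]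
  have hm : ∀ v ∈ f m, rho (c ^ 2 ^ m) v = v := key m le_rfl
  have h1 : rho (c ^ 2 ^ m) v - v ∈ f m := by
    rw [← p.H.perp_max p.hm p.hf.sing (p.hf.rk m le_rfl)]
    intro u hu
    have h2 := p.A.iso (c ^ 2 ^ m) v u
    rw [hm u hu] at h2
    rw [p.H.sub_w, p.H.add, h2, p.H.two_self]
  rw [pow_succ, pow_mul, pow_two, p.A.mul]
  have h2 := hm _ h1
  have h3 : rho (c ^ 2 ^ m) v = v + (rho (c ^ 2 ^ m) v - v) := by abel
  rw [h3, map_add, h2]
  have h4 := p.H.two_w (rho (c ^ 2 ^ m) v - v)
  calc rho (c ^ 2 ^ m) v + (rho (c ^ 2 ^ m) v - v) = v + ((rho (c ^ 2 ^ m) v - v) + (rho (c ^ 2 ^ m) v - v)) := by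
        abel
    _ = v := by rw [h4, add_zero]

/-! ### The residues -/

variable {I : Type*} {P : I → Subgroup G} {a b : I} {i j : ℕ}
  (hB : ∀ k, fst C sigma m f ∅ ≤ P k)
  (ha : P a = fst C sigma m f {i}) (hb : P b = fst C sigma m f {j})

include hB ha hb

theorem rk_two (hij : i + 1 < j) (hj : j ≤ m) :
    Rk (fst C sigma m f ∅) P a b 2 ∧ Rk (fst C sigma m f ∅) P b a 2 :=
  Flags.rk_two p.polSp p.act p.hf hB ha hb hij hj

theorem rk_three (hi : 1 ≤ i) (hij : i + 1 = j) (hj : j < m) :
    Rk (fst C sigma m f ∅) P a b 3 ∧ Rk (fst C sigma m f ∅) P b a 3 :=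
  Flags.rk_three p.polSp p.act p.hf hB ha hb hi hij hj

theorem rk_four (hi : 1 ≤ i) (hij : i + 1 = j) (hj : j = m) :
    Rk (fst C sigma m f ∅) P a b 4 ∧ Rk (fst C sigma m f ∅) P b a 4 :=
  Flags.rk_four p.polSp p.act p.hf hB ha hb hi hij hj

omit hB ha hb in
theorem relIndex (hj1 : 1 ≤ j) (hj : j ≤ m) :
    (fst C sigma m f ∅).relIndex (fst C sigma m f {j}) = Nat.card F + 1 := by
  rw [relIndex_fst p.polSp p.act p.hf hj, p.H.card_pan p.hm p.hf hj1 hj]

omit hB ha hb in
theorem gen (hm1 : 1 ≤ m) {N : Subgroup G} (hN : ∀ j, 1 ≤ j → j ≤ m → fst C sigma m f {j} ≤ N) : C ≤ N :=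
  le_of_panels p.polSp p.act p.hf hm1 hN

end Pol

/-! ### Invariant flags -/

section invariant

variable [FiniteDimensional F W] (H : Symp g) {S : Type*} [Group S] {tau : S →* Equiv.Perm (Submodule F W)}

include H

/-- the number of totally isotropic subspaces of dimension `d + 1` over a given one of dimension `d < m` is odd,
`|F| = 2` -/
theorem odd_over (hF : Nat.card F = 2) (hm : Witt g m) {X : Submodule F W} (hX : TI g X) (hd : finrank F X < m) :
    Odd (Nat.card {Y : Submodule F W | TI g Y ∧ X ≤ Y ∧ finrank F Y = finrank F X + 1}) := by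
  have hW : Finite W := Module.finite_of_finite F
  have hle : X ≤ H.perp X := H.TI_iff.1 hX
  have h1 := Hermit.card_compl hle
  have e : ∀ Y : Submodule F W, ∀ v, X ≤ Y → v ∈ Y → v ∉ X → finrank F Y = finrank F X + 1 →
      Y = X ⊔ (F ∙ v) := fun Y v h1 h2 h3 h4 => by
    symm
    exact eq_of_rk (sup_le h1 (by rwa [Submodule.span_singleton_le_iff_mem]))
      (by rw [Submodule.finrank_sup_span_singleton h3, h4])
  have h2 := Hermit.card_spread (A := X)
    (X := {Y : Submodule F W | TI g Y ∧ X ≤ Y ∧ finrank F Y = finrank F X + 1})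
    (T := {v : W | v ∈ H.perp X ∧ v ∉ X})
    (b := Nat.card F ^ (finrank F X + 1)) (fun x hx => hx.2.1)
    (fun x hx => by rw [Module.natCard_eq_pow_finrank (K := F), hx.2.2])
    (fun v => ?_) (fun x hx x' hx' v hv h1 h2 => ?_)
  · have h3 := H.finrank_perp X
    have h4 := H.finrank_eq hm
    rw [Module.natCard_eq_pow_finrank (K := F) (V := ↥X), Module.natCard_eq_pow_finrank (K := F) (V := ↥(H.perp X)),
      hF] at h1
    rw [Module.natCard_eq_pow_finrank (K := F) (V := ↥X), hF] at h2
    obtain ⟨k, hk⟩ : ∃ k, finrank F ↥(H.perp X) = finrank F X + (k + 1) := ⟨2 * m - 2 * finrank F X - 1, by omega⟩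
    rw [hk, pow_add] at h1
    rw [pow_succ] at h2
    have hR : 0 < 2 ^ finrank F X := pow_pos (by omega) _
    generalize Nat.card {v : W | v ∈ H.perp X ∧ v ∉ X} = T at *
    generalize Nat.card {Y : Submodule F W | TI g Y ∧ X ≤ Y ∧ finrank F Y = finrank F X + 1} = P at *
    generalize 2 ^ finrank F X = R at *
    -- T + R = R 2^(k+1), T + P R = P (R 2)
    have h5 : R * (P + 1) = R * 2 ^ (k + 1) := by nlinarith
    have h6 := Nat.eq_of_mul_eq_mul_left hR h5
    rw [← Nat.not_even_iff_odd]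
    intro hev
    have h7 : Even (2 ^ (k + 1)) := by rw [pow_succ]; exact even_two.mul_left _
    rw [← h6] at h7
    exact absurd h7 (by rw [Nat.not_even_iff_odd]; exact hev.add_one)
  · constructor
    · rintro ⟨hv, hv'⟩
      exact ⟨hv', X ⊔ (F ∙ v), ⟨H.TI_sup_span hX hv, le_sup_left, Submodule.finrank_sup_span_singleton hv'⟩,
        Submodule.mem_sup_right (Submodule.mem_span_singleton_self v)⟩
    · rintro ⟨hv, x, hx, hvx⟩
      exact ⟨fun y hy => hx.1 v hvx y (hx.2.1 hy), hv⟩
  · rw [e x v hx.2.1 h1 hv hx.2.2, e x' v hx'.2.1 h2 hv hx'.2.2]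

/-- **a 2-group fixes a maximal flag through a given invariant flag**, `|F| = 2` -/
theorem exists_fl_inv [Finite S] (hF : Nat.card F = 2) (hm : Witt g m) (hS : IsPGroup 2 S)
    (hle : ∀ s {X Y : Submodule F W}, X ≤ Y → tau s X ≤ tau s Y)
    (hrk : ∀ s (X : Submodule F W), finrank F ↥(tau s X) = finrank F X)
    (hti : ∀ s {X : Submodule F W}, TI g X → TI g (tau s X))
    {k : ℕ} {f₀ : ℕ → Submodule F W} (h : Fl (TI g (F := F)) k f₀) (hinv : ∀ s, ∀ d ≤ k, tau s (f₀ d) = f₀ d) :
    k ≤ m ∧ ∃ f, Fl (TI g (F := F)) m f ∧ (∀ d ≤ k, f d = f₀ d) ∧ ∀ s, ∀ d ≤ m, tau s (f d) = f d := by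
  have hk : k ≤ m := by
    have := hm.2 _ h.sing
    rwa [h.rk k le_rfl] at this
  refine ⟨hk, ?_⟩
  have hfin : Finite W := Module.finite_of_finite F
  have hfs : Finite (Submodule F W) := Finite.of_injective (fun X : Submodule F W => (X : Set W)) SetLike.coe_injective
  have key : ∀ j, k + j ≤ m → ∃ f, Fl (TI g (F := F)) (k + j) f ∧ (∀ d ≤ k, f d = f₀ d) ∧
      ∀ s, ∀ d ≤ k + j, tau s (f d) = f d := by
    intro j
    induction j with
    | zero => intro _; exact ⟨f₀, h, fun _ _ => rfl, hinv⟩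
    | succ j ih =>
      intro hj
      obtain ⟨f, h1, h2, h3⟩ := ih (by omega)
      have hr := h1.rk (k + j) le_rfl
      -- the action on the members over `f (k + j)`
      set Ω : Set (Submodule F W) :=
        {Y : Submodule F W | TI g Y ∧ f (k + j) ≤ Y ∧ finrank F Y = finrank F (f (k + j)) + 1} with hΩ
      have hmap : ∀ s, ∀ Y ∈ Ω, tau s Y ∈ Ω := by
        rintro s Y ⟨h4, h5, h6⟩
        refine ⟨hti s h4, ?_, by rw [hrk, h6]⟩
        rw [← h3 s (k + j) le_rfl]
        exact hle s h5
      let _ : MulAction S Ω :=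
        { smul := fun s Y => ⟨tau s Y.1, hmap s Y.1 Y.2⟩
          one_smul := fun Y => Subtype.ext (by show tau 1 Y.1 = Y.1; rw [map_one]; rfl)
          mul_smul := fun s t Y => Subtype.ext (by
            show tau (s * t) Y.1 = tau s (tau t Y.1)
            rw [map_mul]; rfl) }
      have hodd := odd_over H hF hm h1.sing (by rw [hr]; omega)
      have hfΩ : Finite Ω := inferInstance
      obtain ⟨⟨Y, hY⟩, hfix⟩ := hS.nonempty_fixed_point_of_prime_not_dvd_card Ω (by
        intro hd
        rw [← Nat.not_even_iff_odd] at hodd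
        exact hodd (even_iff_two_dvd.2 hd))
      have hfix' : ∀ s, tau s Y = Y := fun s => congrArg Subtype.val (hfix s)
      obtain ⟨hY1, hY2, hY3⟩ := hY
      refine ⟨Function.update f (k + j + 1) Y, ⟨?_, ?_, ?_⟩, ?_, ?_⟩
      · intro e he
        rw [Function.update_of_ne (by omega)]
        by_cases h4 : e = k + j
        · subst h4; rw [Function.update_self]; exact hY2
        · rw [Function.update_of_ne (by omega)]; exact h1.mono e (by omega)
      · intro e he
        by_cases h4 : e = k + j + 1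
        · subst h4; rw [Function.update_self, hY3, hr]
        · rw [Function.update_of_ne h4]; exact h1.rk e (by omega)
      · show TI g (Function.update f (k + j + 1) Y (k + j + 1))
        rw [Function.update_self]; exact hY1
      · intro d hd
        rw [Function.update_of_ne (by omega)]; exact h2 d hd
      · intro s d hd
        by_cases h4 : d = k + j + 1
        · subst h4; rw [Function.update_self]; exact hfix' s
        · rw [Function.update_of_ne h4]; exact h3 s d (by omega)
  obtain ⟨j, rfl⟩ := Nat.exists_eq_add_of_le hk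
  exact key j le_rfl

end invariant

end Cfsg.Agent.ParSys.Polar.Sympl

end
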